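import Groth.Agent.H46.AlgColimFP

/-!
# Every algebra is a filtered colimit of finitely presented algebras, in `CommAlgCat`
-/

set_option autoImplicit false
universe u
open CategoryTheory CategoryTheory.Limits

namespace Groth.Agent.H78.ArtinApx

/-- `CommAlgCat` version of `Groth.Agent.H46.exists_filteredColimit_fp`. -/
theorem exists_filteredColimit_fp_commAlgCat (R A : Type u) [CommRing R] [CommRing A]
    [Algebra R A] :
    ∃ (I : Type u) (_ : SmallCategory I) (_ : IsFiltered I) (D : I ⥤ CommAlgCat.{u} R)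
      (c : Cocone D) (_ : IsColimit c),
      (∀ i, Algebra.FinitePresentation R (D.obj i)) ∧ Nonempty (c.pt ≅ CommAlgCat.of R A) := by
  obtain ⟨I, _, _, D, cc, hcc, hfp, ⟨e⟩⟩ := Groth.Agent.H46.exists_filteredColimit_fp R A
  let E := commAlgCatEquivUnder (CommRingCat.of R)
  refine ⟨I, inferInstance, inferInstance, D ⋙ E.inverse, E.inverse.mapCocone cc,
    isColimitOfPreserves E.inverse hcc, fun i => hfp i, ⟨?_⟩⟩
  exact E.inverse.mapIso e ≪≫ (E.unitIso.app (CommAlgCat.of R A)).symm

end Groth.Agent.H78.ArtinApx
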