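import Groth.Agent.H23.GRMain

/-!
# A field is a G-ring
-/

set_option autoImplicit false
universe u

namespace Groth.Agent.H78.ArtinApx

open IsLocalRing

/-- A field is a G-ring. -/
theorem isGRing_field (k : Type u) [Field k] : CAlg.IsGRing k := by
  haveI : IsAdicComplete (maximalIdeal k) k := by
    rw [IsLocalRing.maximalIdeal_eq_bot]
    infer_instance
  exact Groth.Agent.H23.GR.isGRing_of_complete k

end Groth.Agent.H78.ArtinApx
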