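import Groth.Agent.H78.ArtinApx.EtSolLoc
import Groth.Agent.H78.ArtinApx.CommAlgColim
import Groth.Agent.H26.AdicComplMax
import Groth.Agent.H20.ComplMap

/-!
# Étale-local solutions at a maximal ideal, with values in the `m`-adic completion
-/

set_option autoImplicit false
universe u
open CategoryTheory CategoryTheory.Limits

namespace Groth.Agent.H78.ArtinApx

open IsLocalRing

/-- Version of `exists_etale_solution_localization` for a maximal ideal `m`, with the completion
`AdicCompletion m A` of `A` itself. -/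
theorem exists_etale_solution_maximal (hPop : PopescuHyp.{u}) {A : Type u} [CommRing A]
    [IsNoetherianRing A] (m : Ideal A) [m.IsMaximal]
    (hG : CAlg.IsGRing (Localization.AtPrime m)) {n r : ℕ}
    (F : Fin r → MvPolynomial (Fin n) A) (a : Fin n → AdicCompletion m A)
    (ha : ∀ j, MvPolynomial.aeval a (F j) = 0) (N : ℕ) :
    ∃ (A' : Type u) (_ : CommRing A') (_ : Algebra A A'), Algebra.Etale A A' ∧
      ∃ (ψ : A' →ₐ[A] AdicCompletion m A) (b : Fin n → A'),
        (∀ j, MvPolynomial.aeval b (F j) = 0) ∧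
        ∀ i, a i - ψ (b i) ∈ (m ^ N).map (algebraMap A (AdicCompletion m A)) := by
  let Am := Localization.AtPrime m
  let κ : AdicCompletion m A →+* AdicCompletion (maximalIdeal Am) Am :=
    FSch.complMap m (maximalIdeal Am) (Groth.Agent.H26.ComplLocMax.toLoc A A Am)
      (Groth.Agent.H26.AdicComplMax.map_toLoc_le_self m Am)
  have hκ : Function.Bijective κ := Groth.Agent.H26.AdicComplMax.complMap_bijective_self m Am
  let κe : AdicCompletion m A ≃+* AdicCompletion (maximalIdeal Am) Am := RingEquiv.ofBijective κ hκ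
  have hκe : ∀ x, κe x = κ x := fun x => rfl
  have hκof : ∀ x : A, κ (algebraMap A (AdicCompletion m A) x) =
      algebraMap Am (AdicCompletion (maximalIdeal Am) Am) (algebraMap A Am x) := by
    intro x
    exact Groth.Agent.H20.complMap_of m (maximalIdeal Am)
      (Groth.Agent.H26.ComplLocMax.toLoc A A Am) _ x
  let a' : Fin n → AdicCompletion (maximalIdeal Am) Am := fun i => κ (a i)
  have ha' : ∀ j, MvPolynomial.aeval a' (MvPolynomial.map (algebraMap A Am) (F j)) = 0 := by
    intro j
    have h1 := congrArg κ (ha j)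
    rw [map_zero, MvPolynomial.aeval_def, MvPolynomial.eval₂_comp_left κ] at h1
    rw [MvPolynomial.aeval_def, MvPolynomial.eval₂_map]
    have h2 : (algebraMap Am (AdicCompletion (maximalIdeal Am) Am)).comp (algebraMap A Am) =
        κ.comp (algebraMap A (AdicCompletion m A)) :=
      RingHom.ext fun x => (hκof x).symm
    rw [h2]
    exact h1
  obtain ⟨A', _, _, hEt, ψ', p', -, hψ'R, -, -, -, b, hb0, hb⟩ :=
    exists_etale_solution_localization hPop m hG F a' ha' N
  let ψ : A' →ₐ[A] AdicCompletion m A :=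
    { toRingHom := κe.symm.toRingHom.comp ψ'
      commutes' := fun x => by
        change κe.symm (ψ' (algebraMap A A' x)) = _
        rw [hψ'R, ← hκof, ← hκe, RingEquiv.symm_apply_apply] }
  refine ⟨A', inferInstance, inferInstance, hEt, ψ, b, hb0, fun i => ?_⟩
  have h1 := Ideal.mem_map_of_mem κe.symm.toRingHom (hb i)
  have h2 : maximalIdeal Am ^ N = (m ^ N).map (algebraMap A Am) := by
    rw [Ideal.map_pow, IsLocalization.AtPrime.map_eq_maximalIdeal m Am]
  rw [h2, Ideal.map_map, Ideal.map_map] at h1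
  have h3 : (κe.symm.toRingHom.comp (algebraMap Am (AdicCompletion (maximalIdeal Am) Am))).comp
      (algebraMap A Am) = algebraMap A (AdicCompletion m A) := by
    refine RingHom.ext fun x => ?_
    change κe.symm (algebraMap Am _ (algebraMap A Am x)) = _
    rw [← hκof, ← hκe, RingEquiv.symm_apply_apply]
  rw [h3] at h1
  have h4 : κe.symm.toRingHom (a' i - ψ' (b i)) = a i - ψ (b i) := by
    rw [map_sub]
    change κe.symm (κe (a i)) - _ = _
    rw [RingEquiv.symm_apply_apply]
    rfl
  rwa [h4] at h1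

/-- Functor form at a maximal ideal (the shape of S18340). -/
theorem functor_etale_approx_maximal (hPop : PopescuHyp.{u}) (A : Type u) [CommRing A]
    [IsNoetherianRing A] (m : Ideal A) [m.IsMaximal]
    (hG : CAlg.IsGRing (Localization.AtPrime m))
    (F : CommAlgCat.{u} A ⥤ Type u) [PreservesFilteredColimits F]
    (ξ : F.obj (CommAlgCat.of A (AdicCompletion m A))) (c : ℕ) :
    ∃ (A' : Type u) (_ : CommRing A') (_ : Algebra A A') (_ : Algebra.Etale A A')
      (ψ : A' →ₐ[A] (A ⧸ m ^ c)) (_ : Function.Surjective ψ) (ξ' : F.obj (CommAlgCat.of A A')),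
      F.map (CommAlgCat.ofHom ψ) ξ' =
        F.map (CommAlgCat.ofHom (AdicCompletion.evalₐ m c)) ξ := by
  obtain ⟨J, _, _, D, cc, hc, hfp, ⟨e⟩⟩ :=
    exists_filteredColimit_fp_commAlgCat A (AdicCompletion m A)
  have hcol : IsColimit (F.mapCocone cc) := isColimitOfPreserves F hc
  obtain ⟨j, z, hz⟩ := Types.jointly_surjective_of_isColimit hcol (F.map e.inv ξ)
  let v : D.obj j ⟶ CommAlgCat.of A (AdicCompletion m A) := cc.ι.app j ≫ e.hom
  have hξ : ξ = F.map v z := by
    have h1 : F.map e.hom (F.map e.inv ξ) = ξ := by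
      rw [← FunctorToTypes.map_comp_apply, e.inv_hom_id, FunctorToTypes.map_id_apply]
    rw [← h1, ← hz]
    change _ = F.map (cc.ι.app j ≫ e.hom) z
    rw [FunctorToTypes.map_comp_apply]
    rfl
  haveI : Algebra.FinitePresentation A (D.obj j) := hfp j
  -- presentation of `D.obj j`
  obtain ⟨n, f, hsurj, hfg⟩ := Algebra.FinitePresentation.out (R := A) (A := (D.obj j : Type u))
  obtain ⟨s, hs⟩ := hfg
  let p : Fin s.card → MvPolynomial (Fin n) A :=
    fun i => (s.equivFin.symm i : MvPolynomial (Fin n) A)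
  let â : Fin n → AdicCompletion m A := fun i => v.hom (f (MvPolynomial.X i))
  have haeval : (MvPolynomial.aeval â :
      MvPolynomial (Fin n) A →ₐ[A] AdicCompletion m A) = v.hom.comp f := by
    apply MvPolynomial.algHom_ext
    intro i
    simp [â]
  have hp : ∀ i, MvPolynomial.aeval â (p i) = 0 := by
    intro i
    rw [haeval]
    have : p i ∈ RingHom.ker f.toRingHom := by
      rw [← hs]
      exact Ideal.subset_span (s.equivFin.symm i).2
    have h0 : f (p i) = 0 := this
    simp [h0]
  obtain ⟨A', _, _, hEt, τ, b, hb0, hb⟩ := exists_etale_solution_maximal hPop m hG p â hp c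
  have hker : RingHom.ker f.toRingHom ≤
      RingHom.ker (MvPolynomial.aeval b : MvPolynomial (Fin n) A →ₐ[A] A').toRingHom := by
    rw [← hs, Ideal.span_le]
    intro q hq
    have : q = p (s.equivFin ⟨q, hq⟩) := by simp [p]
    rw [this]
    exact hb0 (s.equivFin ⟨q, hq⟩)
  let σ : (D.obj j : Type u) →ₐ[A] A' :=
    AlgHom.liftOfSurjective f hsurj (MvPolynomial.aeval b) hker
  let ψ : A' →ₐ[A] (A ⧸ m ^ c) := (AdicCompletion.evalₐ m c).comp τ
  have hψsurj : Function.Surjective ψ := by
    intro y
    obtain ⟨x, rfl⟩ := Ideal.Quotient.mk_surjective y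
    exact ⟨algebraMap A A' x, ψ.commutes x⟩
  refine ⟨A', inferInstance, inferInstance, hEt, ψ, hψsurj, F.map (CommAlgCat.ofHom σ) z, ?_⟩
  rw [hξ, ← FunctorToTypes.map_comp_apply, ← FunctorToTypes.map_comp_apply]
  have key : CommAlgCat.ofHom σ ≫ CommAlgCat.ofHom ψ =
      v ≫ CommAlgCat.ofHom (AdicCompletion.evalₐ m c) := by
    apply CommAlgCat.hom_ext
    apply AlgHom.ext
    intro x
    obtain ⟨q, rfl⟩ := hsurj x
    change ψ (σ (f q)) = AdicCompletion.evalₐ m c (v.hom (f q))
    have h1 : σ (f q) = MvPolynomial.aeval b q := AlgHom.liftOfSurjective_apply f hsurj _ hker q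
    rw [h1]
    have h2 : (ψ.comp (MvPolynomial.aeval b) : MvPolynomial (Fin n) A →ₐ[A] A ⧸ m ^ c) =
        (AdicCompletion.evalₐ m c).comp (v.hom.comp f) := by
      apply MvPolynomial.algHom_ext
      intro i
      have h3 := hb i
      rw [← Groth.Agent.H20.ker_evalₐ_eq_map m (IsNoetherian.noetherian m) c, RingHom.mem_ker,
        map_sub, sub_eq_zero] at h3
      simp only [AlgHom.comp_apply, MvPolynomial.aeval_X]
      exact h3.symm
    exact DFunLike.congr_fun h2 q
  rw [key]

end Groth.Agent.H78.ArtinApx
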