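import Groth.Agent.S0599
import Groth.Agent.H72.ExcellentLoc

/-!
# Local rings essentially of finite type over a local G-ring are G-rings
-/

set_option autoImplicit false
set_option linter.style.haveILetI false
universe u

namespace Groth.Agent.H78.ArtinApx

open TensorProduct

/-- Let `C` be a finite type `A₀`-algebra, `ps` a prime of `A₀` whose local ring `OS` is a G-ring,
and `px` a prime of `C` with `A₀ ∖ ps` mapping into `C ∖ px`.  Then the local ring `L` of `C` at
`px` is a G-ring. -/
theorem isGRing_of_isLocalization_finiteType {A₀ C : Type u} [CommRing A₀] [CommRing C]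
    [Algebra A₀ C] [Algebra.FiniteType A₀ C] (ps : Ideal A₀) [ps.IsPrime] (OS : Type u)
    [CommRing OS] [Algebra A₀ OS] [IsLocalization.AtPrime OS ps] (hOS : CAlg.IsGRing OS)
    (px : Ideal C) [px.IsPrime] (hle : ∀ a : A₀, a ∉ ps → algebraMap A₀ C a ∉ px)
    (L : Type u) [CommRing L] [Algebra C L] [IsLocalization.AtPrime L px] : CAlg.IsGRing L := by
  let T := OS ⊗[A₀] C
  have hT : CAlg.IsGRing T := Groth.Agent.S0599.result OS hOS T
  letI algCT : Algebra C T := Algebra.TensorProduct.rightAlgebra
  haveI hlocT : IsLocalization (Algebra.algebraMapSubmonoid C ps.primeCompl) T :=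
    IsLocalization.tensorRight _ ps.primeCompl
  letI algAL : Algebra A₀ L := ((algebraMap C L).comp (algebraMap A₀ C)).toAlgebra
  haveI : IsScalarTower A₀ C L := IsScalarTower.of_algebraMap_eq fun _ => rfl
  have hunits : ∀ y : ps.primeCompl, IsUnit (Algebra.ofId A₀ L y) := by
    intro y
    change IsUnit (algebraMap C L (algebraMap A₀ C y))
    exact IsLocalization.map_units L (⟨algebraMap A₀ C y, hle y y.2⟩ : px.primeCompl)
  let σ : OS →ₐ[A₀] L := IsLocalization.liftAlgHom (M := ps.primeCompl)
    (f := Algebra.ofId A₀ L) hunits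
  let θ : T →ₐ[A₀] L :=
    Algebra.TensorProduct.lift σ (IsScalarTower.toAlgHom A₀ C L) (fun _ _ => Commute.all _ _)
  letI algTL : Algebra T L := θ.toRingHom.toAlgebra
  haveI : IsScalarTower C T L := IsScalarTower.of_algebraMap_eq fun c => by
    change algebraMap C L c = θ ((1 : OS) ⊗ₜ[A₀] c)
    rw [Algebra.TensorProduct.lift_tmul, map_one, one_mul]
    rfl
  have hle' : Algebra.algebraMapSubmonoid C ps.primeCompl ≤ px.primeCompl := by
    rintro _ ⟨a, ha, rfl⟩
    exact hle a ha
  haveI : IsLocalization (px.primeCompl.map (algebraMap C T)) L :=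
    IsLocalization.isLocalization_of_submonoid_le T L _ px.primeCompl hle'
  exact Groth.Agent.H72.ExcellentLoc.isGRing_of_isLocalization
    (px.primeCompl.map (algebraMap C T)) hT

end Groth.Agent.H78.ArtinApx
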