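import Groth.Agent.H3.FlatOfEtale

/-!
# Relations in a flat local algebra descend to a localization of an étale algebra
-/

set_option autoImplicit false
universe u

namespace Groth.Agent.H78.ArtinApx

open IsLocalRing

/-- Let `S` be a local ring, flat over `R`, and `ψ₀ : E → S` an `R`-algebra map from an étale
`R`-algebra.  Finitely many elements of `E` killed by `ψ₀` are killed by some `s ∈ E` with
`ψ₀ s` a unit. -/
theorem exists_isUnit_mul_eq_zero (R S : Type u) [CommRing R] [CommRing S] [Algebra R S]
    [IsLocalRing S] [Module.Flat R S] (E : Type u) [CommRing E] [Algebra R E] [Algebra.Etale R E]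
    (ψ₀ : E →ₐ[R] S) (t : Finset E) (ht : ∀ x ∈ t, ψ₀ x = 0) :
    ∃ s : E, IsUnit (ψ₀ s) ∧ ∀ x ∈ t, s * x = 0 := by
  classical
  letI : Algebra E S := ψ₀.toRingHom.toAlgebra
  haveI : IsScalarTower R E S := IsScalarTower.of_algebraMap_eq fun r => (ψ₀.commutes r).symm
  haveI hflatE : Module.Flat E S := Groth.Agent.H3.FlatOfEtale.flat_of_etale R E S
  have hψ : ∀ e : E, algebraMap E S e = ψ₀ e := fun e => rfl
  let n : Ideal E := (maximalIdeal S).comap (algebraMap E S)
  haveI hn : n.IsPrime := Ideal.comap_isPrime _ _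
  let E' := Localization.AtPrime n
  have hunit : ∀ y : n.primeCompl, IsUnit (algebraMap E S y) := fun y =>
    IsLocalRing.notMem_maximalIdeal.mp y.2
  let ψ : E' →+* S := IsLocalization.lift (M := n.primeCompl) (g := algebraMap E S) hunit
  letI : Algebra E' S := ψ.toAlgebra
  haveI : IsScalarTower E E' S := IsScalarTower.of_algebraMap_eq fun e =>
    (IsLocalization.lift_eq (M := n.primeCompl) hunit e).symm
  haveI hflat' : Module.Flat E' S :=
    (Module.flat_iff_of_isLocalization E' n.primeCompl S).mpr hflatE
  haveI hloc : IsLocalHom (algebraMap E' S) := by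
    refine ⟨fun y hy => ?_⟩
    obtain ⟨a, s, rfl⟩ := IsLocalization.exists_mk'_eq n.primeCompl y
    have h1 : algebraMap E' S (IsLocalization.mk' E' a s) * algebraMap E S s = algebraMap E S a := by
      rw [IsScalarTower.algebraMap_apply E E' S, IsScalarTower.algebraMap_apply E E' S, ← map_mul,
        IsLocalization.mk'_spec]
    have h2 : IsUnit (algebraMap E S a) := by
      rw [← h1]
      exact hy.mul (hunit s)
    have h3 : a ∈ n.primeCompl := fun ha => (IsLocalRing.notMem_maximalIdeal.mpr h2) ha
    exact (IsLocalization.AtPrime.isUnit_mk'_iff E' n a s).mpr h3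
  haveI hff : Module.FaithfullyFlat E' S := Module.FaithfullyFlat.of_flat_of_isLocalHom
  have hinj : Function.Injective (algebraMap E' S) := FaithfulSMul.algebraMap_injective E' S
  -- each element is killed by something outside `n`
  have h1 : ∀ x ∈ t, ∃ s : n.primeCompl, (s : E) * x = 0 := by
    intro x hx
    have h2 : algebraMap E E' x = 0 := by
      apply hinj
      rw [← IsScalarTower.algebraMap_apply E E' S, hψ, ht x hx, map_zero]
    exact (IsLocalization.map_eq_zero_iff n.primeCompl E' x).mp h2
  choose! σ hσ using h1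
  refine ⟨∏ x ∈ t, (σ x : E), ?_, fun x hx => ?_⟩
  · rw [map_prod]
    have : ∀ x ∈ t, IsUnit (ψ₀ (σ x : E)) := fun x _ => hunit (σ x)
    exact (IsUnit.prod_iff (f := fun x => ψ₀ (σ x : E))).mpr this
  · rw [← Finset.mul_prod_erase t _ hx, mul_comm ((σ x : E)), mul_assoc, hσ x hx, mul_zero]

end Groth.Agent.H78.ArtinApx
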