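import Groth.Agent.H72.HensGRing
import Groth.Agent.H72.HensFormal
import Groth.Agent.H26.AdicComplRegular
import Groth.Agent.S0506

/-!
# The henselization of a Noetherian local G-ring: the package used for Artin approximation
-/

set_option autoImplicit false
universe u

namespace Groth.Agent.H78.ArtinApx

open IsLocalRing Groth.Agent.H14.HensProp

/-- Basic package for a henselization `S` of a Noetherian local ring `R`. -/
theorem hens_package (R S : Type u) [CommRing R] [IsLocalRing R] [IsNoetherianRing R]
    [CommRing S] [IsLocalRing S] [Algebra R S] [IsLocalHom (algebraMap R S)]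
    [hS : Hensel.IsHenselization R S] :
    IsNoetherianRing S ∧ Module.Flat R S ∧
      (maximalIdeal R).map (algebraMap R S) = maximalIdeal S ∧
      (∀ b : S, ∃ a : R, b - algebraMap R S a ∈ maximalIdeal S) ∧
      (∀ x : S, InEtImage R S {x}) := by
  obtain ⟨hnoe, hflat, hmax⟩ := Groth.Agent.H14.HensProp.hens_basic R S
  have hP := Groth.Agent.H3.HensIso.isPairHenselization_of_isHenselization hS
  have hH0 : HenselianLocalRing (R ⧸ maximalIdeal R) := by
    let _ := Ideal.Quotient.field (maximalIdeal R)
    exact Field.henselian _
  have hres : ∀ b : S, ∃ a : R, b - algebraMap R S a ∈ maximalIdeal S := by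
    intro b
    have hb := (Groth.Agent.H3.bijective_quotientMap_of_isHenselization R S (maximalIdeal R)).2
      (Ideal.Quotient.mk _ b)
    obtain ⟨y, hy⟩ := hb
    obtain ⟨a, rfl⟩ := Ideal.Quotient.mk_surjective y
    refine ⟨a, ?_⟩
    rw [Ideal.quotientMap_mk, Ideal.Quotient.eq, hmax] at hy
    have := (maximalIdeal S).neg_mem hy
    rwa [neg_sub] at this
  exact ⟨hnoe, hflat, hmax, hres,
    fun x => Groth.Agent.H3.HensUnion.isUnion_of_isPairHenselization hP x⟩

/-- The henselization of a Noetherian local G-ring has a regular completion map. -/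
theorem isRegularHom_cpl_hens (R S : Type u) [CommRing R] [IsLocalRing R]
    (hG : CAlg.IsGRing R)
    [CommRing S] [IsLocalRing S] [Algebra R S] [IsLocalHom (algebraMap R S)]
    [hS : Hensel.IsHenselization R S] :
    CAlg.IsRegularHom S (AdicCompletion (maximalIdeal S) S) := by
  haveI : IsNoetherianRing R := hG.1
  exact (Groth.Agent.H72.HensGRing.isRegularHom_cpl_henselization_iff R S).mpr
    (Groth.Agent.H26.AdicComplFibres.isRegularHom_adicCompletion hG _)

end Groth.Agent.H78.ArtinApx
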