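import Groth.Agent.H78.ArtinApx.Pair
import Groth.Agent.H78.ArtinApx.EtDescend
import Groth.Agent.H78.ArtinApx.HensPackage

/-!
# Étale-local solutions over a local G-ring (from Popescu's theorem)
-/

set_option autoImplicit false
universe u

namespace Groth.Agent.H78.ArtinApx

open IsLocalRing Groth.Agent.H14.HensProp

section Transfer

variable {R S : Type u} [CommRing R] [CommRing S] [Algebra R S] (I : Ideal R) (J : Ideal S)
  (φ : AdicCompletion I R ≃+* AdicCompletion J S)
  (hφ : ∀ r : R, φ (algebraMap R (AdicCompletion I R) r) =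
        algebraMap S (AdicCompletion J S) (algebraMap R S r))

/-- The map `S → Ŝ ≃ R̂`. -/
noncomputable def theta : S →ₐ[R] AdicCompletion I R where
  toRingHom := φ.symm.toRingHom.comp (algebraMap S (AdicCompletion J S))
  commutes' := fun r => by
    change φ.symm (algebraMap S (AdicCompletion J S) (algebraMap R S r)) = _
    rw [← hφ r, RingEquiv.symm_apply_apply]

theorem theta_apply (z : S) :
    theta I J φ hφ z = φ.symm (algebraMap S (AdicCompletion J S) z) := rfl

theorem theta_mem (K : Ideal R) (y : S) (hy : y ∈ K.map (algebraMap R S)) :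
    theta I J φ hφ y ∈ K.map (algebraMap R (AdicCompletion I R)) := by
  have h1 := Ideal.mem_map_of_mem (theta I J φ hφ : S →+* AdicCompletion I R) hy
  rw [Ideal.map_map] at h1
  have h2 : ((theta I J φ hφ : S →+* AdicCompletion I R).comp (algebraMap R S)) =
      algebraMap R (AdicCompletion I R) :=
    RingHom.ext fun r => (theta I J φ hφ).commutes r
  rwa [h2] at h1

theorem sub_theta_mem (K : Ideal R) (x : AdicCompletion I R) (z : S)
    (h : φ x - algebraMap S (AdicCompletion J S) z ∈
      (K.map (algebraMap R S)).map (algebraMap S (AdicCompletion J S))) :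
    x - theta I J φ hφ z ∈ K.map (algebraMap R (AdicCompletion I R)) := by
  have h1 := Ideal.mem_map_of_mem φ.symm.toRingHom h
  rw [Ideal.map_map, Ideal.map_map] at h1
  have h2 : ((φ.symm.toRingHom.comp (algebraMap S (AdicCompletion J S))).comp (algebraMap R S)) =
      algebraMap R (AdicCompletion I R) := by
    refine RingHom.ext fun r => ?_
    change φ.symm (algebraMap S (AdicCompletion J S) (algebraMap R S r)) = _
    rw [← hφ r, RingEquiv.symm_apply_apply]
  rw [h2] at h1
  have h3 : φ.symm.toRingHom (φ x - algebraMap S (AdicCompletion J S) z) =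
      x - theta I J φ hφ z := by
    rw [map_sub]
    change φ.symm (φ x) - _ = _
    rw [RingEquiv.symm_apply_apply]
    rfl
  rwa [h3] at h1

end Transfer

/-- **S6825 from Popescu.** -/
theorem exists_etale_solution (hPop : PopescuHyp.{u}) {R : Type u} [CommRing R] [IsLocalRing R]
    (hG : CAlg.IsGRing R) {n m : ℕ} (F : Fin m → MvPolynomial (Fin n) R)
    (a : Fin n → AdicCompletion (maximalIdeal R) R) (ha : ∀ j, MvPolynomial.aeval a (F j) = 0)
    (N : ℕ) :
    ∃ (R' : Type u) (_ : CommRing R') (_ : Algebra R R'), Algebra.Etale R R' ∧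
      ∃ (ψ : R' →ₐ[R] AdicCompletion (maximalIdeal R) R) (m' : Ideal R'), m'.IsMaximal ∧
        m'.comap (algebraMap R R') = maximalIdeal R ∧
        (∀ x : R', ∃ r : R, x - algebraMap R R' r ∈ m') ∧
        (∀ x ∈ m', ψ x ∈ (maximalIdeal R).map
          (algebraMap R (AdicCompletion (maximalIdeal R) R))) ∧
        ∃ b : Fin n → R', (∀ j, MvPolynomial.aeval b (F j) = 0) ∧
          ∀ i, a i - ψ (b i) ∈ (maximalIdeal R ^ N).map
            (algebraMap R (AdicCompletion (maximalIdeal R) R)) := by
  classical
  haveI : IsNoetherianRing R := hG.1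
  obtain ⟨S, _, _, _, _, hS⟩ := Groth.Agent.S0506.result R
  obtain ⟨hnoe, hflat, hmax, hres, hU⟩ := hens_package R S
  haveI : HenselianLocalRing S := hS.henselian
  have hregS := isRegularHom_cpl_hens R S hG
  obtain ⟨φ, hφ⟩ := Groth.Agent.H72.HensFormal.exists_complEquiv (R := R) (S := S) hmax hres
  -- the system over `S`
  let F' : Fin m → MvPolynomial (Fin n) S := fun j => MvPolynomial.map (algebraMap R S) (F j)
  let a' : Fin n → AdicCompletion (maximalIdeal S) S := fun i => φ (a i)
  have ha' : ∀ j, MvPolynomial.aeval a' (F' j) = 0 := by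
    intro j
    have h1 := congrArg φ.toRingHom (ha j)
    rw [map_zero, MvPolynomial.aeval_def, MvPolynomial.eval₂_comp_left φ.toRingHom] at h1
    rw [MvPolynomial.aeval_def, MvPolynomial.eval₂_map]
    have h2 : (algebraMap S (AdicCompletion (maximalIdeal S) S)).comp (algebraMap R S) =
        φ.toRingHom.comp (algebraMap R (AdicCompletion (maximalIdeal R) R)) :=
      RingHom.ext fun r => (hφ r).symm
    rw [h2]
    exact h1
  obtain ⟨bh, hbh0, hbh⟩ :=
    exists_solution_approx hPop S (maximalIdeal S) hregS n m F' a' ha' N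
  -- descend `bh` to an étale algebra
  obtain ⟨E, _, _, hE, ψ₀, hψ₀⟩ :=
    InEtImage.finset (R := R) (Finset.univ.image bh) (fun y _ => hU y)
  have hbh' : ∀ i, ∃ e : E, ψ₀ e = bh i := fun i =>
    hψ₀ (Finset.mem_coe.mpr (Finset.mem_image_of_mem bh (Finset.mem_univ i)))
  choose e he using hbh'
  have hx : ∀ j, ψ₀ (MvPolynomial.aeval e (F j)) = 0 := by
    intro j
    have h1 : ψ₀ (MvPolynomial.aeval e (F j)) = MvPolynomial.aeval (fun i => ψ₀ (e i)) (F j) := by
      rw [← MvPolynomial.comp_aeval]
      rfl
    rw [h1]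
    have h2 : (fun i => ψ₀ (e i)) = bh := funext he
    rw [h2, MvPolynomial.aeval_def, ← MvPolynomial.eval_map]
    exact hbh0 j
  obtain ⟨s, hsu, hs⟩ := exists_isUnit_mul_eq_zero R S E ψ₀
    (Finset.univ.image fun j => MvPolynomial.aeval e (F j)) (by
      intro x hx'
      obtain ⟨j, -, rfl⟩ := Finset.mem_image.mp hx'
      exact hx j)
  -- the étale neighbourhood
  let R' := Localization.Away s
  haveI : Algebra.Etale R R' := Algebra.Etale.comp R E R'
  let ψ₁ : R' →ₐ[R] S := IsLocalization.liftAlgHom (M := Submonoid.powers s) (f := ψ₀) (by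
    rintro ⟨_, k, rfl⟩
    rw [map_pow]
    exact hsu.pow k)
  have hψ₁ : ∀ x : E, ψ₁ (algebraMap E R' x) = ψ₀ x := fun x => by
    change IsLocalization.liftAlgHom (M := Submonoid.powers s) (f := ψ₀) _ (algebraMap E R' x) = _
    rw [IsLocalization.liftAlgHom_apply]
    exact IsLocalization.lift_eq _ x
  let θ := theta (maximalIdeal R) (maximalIdeal S) φ hφ
  let m' : Ideal R' := (maximalIdeal S).comap (ψ₁ : R' →+* S)
  have hm'prime : m'.IsPrime := Ideal.comap_isPrime _ _
  have hres' : ∀ x : R', ∃ r : R, x - algebraMap R R' r ∈ m' := by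
    intro x
    obtain ⟨r, hr⟩ := hres (ψ₁ x)
    refine ⟨r, ?_⟩
    change ψ₁ (x - algebraMap R R' r) ∈ maximalIdeal S
    rwa [map_sub, AlgHom.commutes]
  have hcomap : m'.comap (algebraMap R R') = maximalIdeal R := by
    change ((maximalIdeal S).comap (ψ₁ : R' →+* S)).comap (algebraMap R R') = _
    rw [Ideal.comap_comap]
    have h1 : (ψ₁ : R' →+* S).comp (algebraMap R R') = algebraMap R S := by
      ext r
      exact ψ₁.commutes r
    rw [h1]
    exact ((IsLocalRing.local_hom_TFAE (algebraMap R S)).out 0 4).mp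
      (inferInstance : IsLocalHom (algebraMap R S))
  have hmax' : m'.IsMaximal := by
    rw [Ideal.isMaximal_iff]
    refine ⟨fun h1 => hm'prime.ne_top ((Ideal.eq_top_iff_one _).mpr h1), ?_⟩
    intro J x hJ hx hxJ
    obtain ⟨r, hr⟩ := hres' x
    have hr' : r ∉ maximalIdeal R := by
      intro hrm
      have h1 : algebraMap R R' r ∈ m' := by
        rw [← hcomap] at hrm
        exact hrm
      apply hx
      have := m'.add_mem hr h1
      rwa [sub_add_cancel] at this
    have hru : IsUnit (algebraMap R R' r) :=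
      (IsLocalRing.notMem_maximalIdeal.mp hr').map (algebraMap R R')
    have h2 : algebraMap R R' r ∈ J := by
      have := J.sub_mem hxJ (hJ hr)
      rwa [sub_sub_cancel] at this
    exact (Ideal.eq_top_iff_one J).mp (Ideal.eq_top_of_isUnit_mem J h2 hru)
  refine ⟨R', inferInstance, inferInstance, inferInstance, θ.comp ψ₁, m', hmax', hcomap, hres', ?_,
    fun i => algebraMap E R' (e i), ?_, ?_⟩
  · intro x hx'
    have h1 : ψ₁ x ∈ (maximalIdeal R).map (algebraMap R S) := by
      rw [hmax]
      exact hx'
    exact theta_mem _ _ φ hφ _ _ h1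
  · intro j
    have h1 : MvPolynomial.aeval (fun i => algebraMap E R' (e i)) (F j) =
        algebraMap E R' (MvPolynomial.aeval e (F j)) := by
      have := MvPolynomial.comp_aeval (R := R) (f := e) (IsScalarTower.toAlgHom R E R')
      have h2 := AlgHom.congr_fun this (F j)
      exact h2.symm
    rw [h1]
    have h2 := hs (MvPolynomial.aeval e (F j))
      (Finset.mem_image_of_mem _ (Finset.mem_univ j))
    have h3 : IsUnit (algebraMap E R' s) := IsLocalization.Away.algebraMap_isUnit s
    have h4 := congrArg (algebraMap E R') h2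
    rw [map_mul, map_zero] at h4
    exact (h3.mul_right_eq_zero).mp h4
  · intro i
    change a i - θ (ψ₁ (algebraMap E R' (e i))) ∈ _
    rw [hψ₁, he]
    apply sub_theta_mem _ _ φ hφ
    have h1 := hbh i
    have h2 : maximalIdeal S ^ N = (maximalIdeal R ^ N).map (algebraMap R S) := by
      rw [Ideal.map_pow, hmax]
    rw [h2] at h1
    exact h1

end Groth.Agent.H78.ArtinApx
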