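import Mathlib

/-!
# Solutions of polynomial systems in a localization come from a principal localization
-/

set_option autoImplicit false
universe u

namespace Groth.Agent.H78.ArtinApx

open MvPolynomial

/-- If `t = σ * c` is invertible somewhere then so is `σ`. -/
theorem isUnit_algebraMap_of_mul {R' : Type*} [CommRing R'] (σ c : R') :
    IsUnit (algebraMap R' (Localization.Away (σ * c)) σ) := by
  have h := IsLocalization.Away.algebraMap_isUnit (S := Localization.Away (σ * c)) (σ * c)
  rw [map_mul] at h
  exact isUnit_of_mul_isUnit_left h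

/-- Let `T` be the localization of `R'` at `M'`.  A solution in `T` of a finite polynomial system
over `R'` comes from a solution in `R'[1/t]` for some `t ∈ M'`. -/
theorem exists_away_solution {R' : Type u} [CommRing R'] (M' : Submonoid R') (T : Type u)
    [CommRing T] [Algebra R' T] [IsLocalization M' T] {n m : ℕ}
    (G : Fin m → MvPolynomial (Fin n) R') (b'' : Fin n → T) (hb : ∀ j, aeval b'' (G j) = 0) :
    ∃ (t : R') (_ : t ∈ M') (lam : Localization.Away t →ₐ[R'] T) (b : Fin n → Localization.Away t),
      (∀ j, aeval b (G j) = 0) ∧ ∀ i, lam (b i) = b'' i := by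
  classical
  obtain ⟨σ, hσ⟩ := IsLocalization.exist_integer_multiples_of_finite M' b''
  choose β hβ using hσ
  -- first localization
  let L₁ := Localization.Away (σ : R')
  have hσT : IsUnit (algebraMap R' T (σ : R')) := IsLocalization.map_units T σ
  let lam₁ : L₁ →ₐ[R'] T := IsLocalization.liftAlgHom (M := Submonoid.powers (σ : R'))
    (f := Algebra.ofId R' T) (by
      rintro ⟨_, k, rfl⟩
      change IsUnit (algebraMap R' T ((σ : R') ^ k))
      rw [map_pow]
      exact hσT.pow k)
  let σ' : Submonoid.powers (σ : R') := ⟨σ, Submonoid.mem_powers _⟩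
  let b1 : Fin n → L₁ := fun i => IsLocalization.mk' L₁ (β i) σ'
  have hb1 : ∀ i, algebraMap R' L₁ (σ : R') * b1 i = algebraMap R' L₁ (β i) := fun i =>
    IsLocalization.mk'_spec' L₁ (β i) σ'
  have hlam₁ : ∀ i, lam₁ (b1 i) = b'' i := by
    intro i
    have h1 := congrArg lam₁ (hb1 i)
    rw [map_mul, AlgHom.commutes, AlgHom.commutes, hβ i, Algebra.smul_def] at h1
    exact hσT.mul_left_cancel h1
  -- the relations hold after a further localization
  have hy : ∀ j, lam₁ (aeval b1 (G j)) = 0 := by
    intro j
    have h1 := AlgHom.congr_fun (MvPolynomial.comp_aeval (R := R') (f := b1) lam₁) (G j)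
    rw [AlgHom.comp_apply] at h1
    rw [h1]
    have h2 : (fun i => lam₁ (b1 i)) = b'' := funext hlam₁
    rw [h2]
    exact hb j
  have hz : ∀ j, ∃ (z : R') (s : Submonoid.powers (σ : R')) (τ : M'),
      aeval b1 (G j) * algebraMap R' L₁ s = algebraMap R' L₁ z ∧ (τ : R') * z = 0 := by
    intro j
    obtain ⟨⟨z, s⟩, hzs⟩ := IsLocalization.surj (Submonoid.powers (σ : R')) (aeval b1 (G j))
    have h1 : algebraMap R' T z = 0 := by
      have h2 := congrArg lam₁ hzs
      rw [map_mul, hy j, zero_mul, AlgHom.commutes] at h2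
      exact h2.symm
    obtain ⟨τ, hτ⟩ := (IsLocalization.map_eq_zero_iff M' T z).mp h1
    exact ⟨z, s, τ, hzs, hτ⟩
  choose z s τ hzs hτ using hz
  -- the final localization
  let c : R' := ∏ j, (τ j : R')
  have hcM : c ∈ M' := Submonoid.prod_mem M' fun j _ => (τ j).2
  let t : R' := (σ : R') * c
  have htM : t ∈ M' := M'.mul_mem σ.2 hcM
  let L := Localization.Away t
  have hσL : IsUnit (algebraMap R' L (σ : R')) := isUnit_algebraMap_of_mul (σ : R') c
  have hτL : ∀ j, IsUnit (algebraMap R' L (τ j : R')) := by
    intro j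
    have h1 : IsUnit (algebraMap R' L c) := by
      have h := IsLocalization.Away.algebraMap_isUnit (S := L) t
      rw [map_mul] at h
      exact isUnit_of_mul_isUnit_right h
    have h2 : c = (τ j : R') * ∏ k ∈ Finset.univ.erase j, (τ k : R') :=
      (Finset.mul_prod_erase Finset.univ (fun k => (τ k : R')) (Finset.mem_univ j)).symm
    rw [h2, map_mul] at h1
    exact isUnit_of_mul_isUnit_left h1
  let mu : L₁ →ₐ[R'] L := IsLocalization.liftAlgHom (M := Submonoid.powers (σ : R'))
    (f := Algebra.ofId R' L) (by
      rintro ⟨_, k, rfl⟩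
      change IsUnit (algebraMap R' L ((σ : R') ^ k))
      rw [map_pow]
      exact hσL.pow k)
  let lam : L →ₐ[R'] T := IsLocalization.liftAlgHom (M := Submonoid.powers t)
    (f := Algebra.ofId R' T) (by
      rintro ⟨_, k, rfl⟩
      change IsUnit (algebraMap R' T (t ^ k))
      rw [map_pow]
      exact (IsLocalization.map_units T (⟨t, htM⟩ : M')).pow k)
  have hcomp : lam.comp mu = lam₁ :=
    (IsLocalization.algHom_subsingleton (Submonoid.powers (σ : R'))).elim _ _
  refine ⟨t, htM, lam, fun i => mu (b1 i), fun j => ?_, fun i => ?_⟩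
  · have h1 := AlgHom.congr_fun (MvPolynomial.comp_aeval (R := R') (f := b1) mu) (G j)
    rw [AlgHom.comp_apply] at h1
    rw [← h1]
    have h2 := congrArg mu (hzs j)
    rw [map_mul, AlgHom.commutes, AlgHom.commutes] at h2
    have h3 : algebraMap R' L (z j) = 0 := by
      have h4 := congrArg (algebraMap R' L) (hτ j)
      rw [map_mul, map_zero] at h4
      exact ((hτL j).mul_right_eq_zero).mp h4
    rw [h3] at h2
    have h5 : IsUnit (algebraMap R' L (s j : R')) := by
      obtain ⟨k, hk⟩ := (s j).2
      rw [← hk, map_pow]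
      exact hσL.pow k
    exact (h5.mul_left_eq_zero).mp h2
  · rw [← AlgHom.comp_apply, hcomp]
    exact hlam₁ i

end Groth.Agent.H78.ArtinApx
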