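import Groth.Agent.H78.ArtinApx.EtSolLoc

/-!
# Étale-local solutions at a prime, for an arbitrary model `L` of the localization
-/

set_option autoImplicit false
universe u

namespace Groth.Agent.H78.ArtinApx

open IsLocalRing TensorProduct

/-- Version of `exists_etale_solution_localization` for an arbitrary localization `L` of `R` at `p`
(for instance a stalk of a scheme). -/
theorem exists_etale_solution_isLocalization (hPop : PopescuHyp.{u}) {R : Type u} [CommRing R]
    [IsNoetherianRing R] (p : Ideal R) [p.IsPrime] (L : Type u) [CommRing L] [IsLocalRing L]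
    [Algebra R L] [IsLocalization.AtPrime L p] (hG : CAlg.IsGRing L)
    {n m : ℕ} (F : Fin m → MvPolynomial (Fin n) R)
    (a : Fin n → AdicCompletion (maximalIdeal L) L)
    (ha : ∀ j, MvPolynomial.aeval a
      (MvPolynomial.map (algebraMap R L) (F j)) = 0) (N : ℕ) :
    ∃ (R' : Type u) (_ : CommRing R') (_ : Algebra R R'), Algebra.Etale R R' ∧
      ∃ (ψ : R' →+* AdicCompletion (maximalIdeal L)
          L)
        (p' : Ideal R'), p'.IsPrime ∧
        (∀ r : R, ψ (algebraMap R R' r) =
          algebraMap L _ (algebraMap R L r)) ∧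
        p'.comap (algebraMap R R') = p ∧
        (∀ x : R', ∃ r s : R, s ∉ p ∧ algebraMap R R' s * x - algebraMap R R' r ∈ p') ∧
        (∀ x ∈ p', ψ x ∈ (maximalIdeal L).map
          (algebraMap L
            (AdicCompletion (maximalIdeal L) L))) ∧
        ∃ b : Fin n → R', (∀ j, MvPolynomial.aeval b (F j) = 0) ∧
          ∀ i, a i - ψ (b i) ∈ (maximalIdeal L ^ N).map
            (algebraMap L
              (AdicCompletion (maximalIdeal L)
                L)) := by
  classical
  obtain ⟨R'', _, _, hEt'', ψ'', m'', hmax'', hcomap'', hres'', hψ'', b'', hb''0, hb''⟩ :=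
    exists_etale_solution hPop hG
      (fun j => MvPolynomial.map (algebraMap R L) (F j)) a ha N
  -- descend the étale algebra
  obtain ⟨E, _, _, hE, ⟨ε⟩⟩ := Groth.Agent.H27.EtaleDescent.exists_etale_descent R
    L
    (fun ι q => Groth.Agent.H27.EtaleDescent.exists_lift_of_isLocalization p.primeCompl
      L q) R''
  letI algET : Algebra E (L ⊗[R] E) := Algebra.TensorProduct.rightAlgebra
  haveI : IsLocalization (Algebra.algebraMapSubmonoid E p.primeCompl)
      (L ⊗[R] E) := IsLocalization.tensorRight _ p.primeCompl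
  have halgE : ∀ x : E, algebraMap E (L ⊗[R] E) x = 1 ⊗ₜ x := fun x => rfl
  -- the system over `E`
  let G : Fin m → MvPolynomial (Fin n) E := fun j => MvPolynomial.map (algebraMap R E) (F j)
  let b3 : Fin n → L ⊗[R] E := fun i => ε.symm (b'' i)
  have hRT : ∀ r : R, (1 : L) ⊗ₜ[R] (algebraMap R E r) =
      algebraMap L (L ⊗[R] E)
        (algebraMap R L r) := by
    intro r
    rw [Algebra.TensorProduct.algebraMap_apply, Algebra.algebraMap_self, RingHom.id_apply,
      Algebra.algebraMap_eq_smul_one, Algebra.algebraMap_eq_smul_one, TensorProduct.tmul_smul,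
      TensorProduct.smul_tmul']
  have hb3 : ∀ j, MvPolynomial.aeval b3 (G j) = 0 := by
    intro j
    have h1 := congrArg ε.symm.toRingEquiv.toRingHom (hb''0 j)
    rw [map_zero, MvPolynomial.aeval_def, MvPolynomial.eval₂_map,
      MvPolynomial.eval₂_comp_left ε.symm.toRingEquiv.toRingHom] at h1
    rw [MvPolynomial.aeval_def, MvPolynomial.eval₂_map]
    have h2 : (algebraMap E (L ⊗[R] E)).comp (algebraMap R E) =
        ε.symm.toRingEquiv.toRingHom.comp
          ((algebraMap L R'').comp
            (algebraMap R L)) := by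
      refine RingHom.ext fun r => ?_
      change algebraMap E (L ⊗[R] E) (algebraMap R E r) =
        ε.symm (algebraMap L R'' (algebraMap R L r))
      rw [AlgEquiv.commutes, halgE, hRT]
    rw [h2]
    exact h1
  obtain ⟨t, ht, lam, b, hb0, hb⟩ :=
    exists_away_solution (Algebra.algebraMapSubmonoid E p.primeCompl)
      (L ⊗[R] E) G b3 hb3
  -- the étale neighbourhood
  let R' := Localization.Away t
  haveI : Algebra.Etale R R' := Algebra.Etale.comp R E R'
  let δ : R' →+* R'' := ε.toRingEquiv.toRingHom.comp lam.toRingHom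
  have hδ : ∀ x : R', δ x = ε (lam x) := fun x => rfl
  have hδR : ∀ r : R, δ (algebraMap R R' r) =
      algebraMap L R'' (algebraMap R L r) := by
    intro r
    rw [hδ, IsScalarTower.algebraMap_apply R E R', AlgHom.commutes, halgE, hRT, AlgEquiv.commutes]
  let p' : Ideal R' := m''.comap δ
  have hδcomp : δ.comp (algebraMap R R') =
      (algebraMap L R'').comp (algebraMap R L) :=
    RingHom.ext hδR
  refine ⟨R', inferInstance, inferInstance, inferInstance, ψ''.toRingHom.comp δ, p',
    Ideal.comap_isPrime _ _, ?_, ?_, ?_, ?_, b, ?_, ?_⟩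
  · intro r
    change ψ'' (δ (algebraMap R R' r)) = _
    rw [hδR, AlgHom.commutes]
  · change (m''.comap δ).comap (algebraMap R R') = p
    rw [Ideal.comap_comap, hδcomp, ← Ideal.comap_comap, hcomap'']
    exact IsLocalization.AtPrime.under_maximalIdeal L p
  · intro x
    obtain ⟨y, hy⟩ := hres'' (δ x)
    obtain ⟨r, s, rfl⟩ := IsLocalization.exists_mk'_eq p.primeCompl y
    refine ⟨r, s, s.2, ?_⟩
    change δ (algebraMap R R' s * x - algebraMap R R' r) ∈ m''
    rw [map_sub, map_mul, hδR, hδR]
    have h1 : algebraMap L R'' (algebraMap R L s) *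
        δ x - algebraMap L R'' (algebraMap R L r) =
        algebraMap L R'' (algebraMap R L s) *
          (δ x - algebraMap L R''
            (IsLocalization.mk' L r s)) := by
      rw [mul_sub, ← map_mul, IsLocalization.mk'_spec']
    rw [h1]
    exact m''.mul_mem_left _ hy
  · intro x hx
    exact hψ'' (δ x) hx
  · intro j
    have h1 := hb0 j
    rwa [MvPolynomial.aeval_map_algebraMap] at h1
  · intro i
    change a i - ψ'' (δ (b i)) ∈ _
    rw [hδ, hb i]
    change a i - ψ'' (ε (ε.symm (b'' i))) ∈ _
    rw [AlgEquiv.apply_symm_apply]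
    exact hb'' i

end Groth.Agent.H78.ArtinApx
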