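import Groth.Agent.H78.ArtinApx.Pair
import Groth.Agent.H73.ArtinFunctor

/-!
# Artin approximation for functors (from Popescu's theorem)
-/

set_option autoImplicit false
universe u
open CategoryTheory CategoryTheory.Limits

namespace Groth.Agent.H78.ArtinApx

/-- Approximation of solutions of polynomial systems, congruence stated in `A ⧸ I ^ c`. -/
theorem exists_solution_approx' (hPop : PopescuHyp.{u}) (A : Type u) [CommRing A]
    [IsNoetherianRing A] (I : Ideal A) [HenselianRing A I]
    (hreg : CAlg.IsRegularHom A (AdicCompletion I A)) (k l c : ℕ)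
    (f : Fin l → MvPolynomial (Fin k) A) (â : Fin k → AdicCompletion I A)
    (h : ∀ i, MvPolynomial.aeval â (f i) = 0) :
    ∃ a : Fin k → A, (∀ i, MvPolynomial.eval a (f i) = 0) ∧
      ∀ j, Ideal.Quotient.mk (I ^ c) (a j) = AdicCompletion.evalₐ I c (â j) := by
  obtain ⟨b, hb0, hb⟩ := exists_solution_approx hPop A I hreg k l f â h c
  refine ⟨b, hb0, fun j => ?_⟩
  have h1 := hb j
  rw [← Groth.Agent.H20.ker_evalₐ_eq_map I (IsNoetherian.noetherian I) c, RingHom.mem_ker,
    map_sub, sub_eq_zero] at h1
  change AdicCompletion.evalₐ I c (â j) =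
    AdicCompletion.evalₐ I c (algebraMap A (AdicCompletion I A) (b j)) at h1
  rw [h1, AlgHom.commutes]
  rfl

/-- Artin approximation for a functor commuting with filtered colimits, over a Noetherian ring
henselian along `I` with `A → Â` regular. -/
theorem functor_approx (hPop : PopescuHyp.{u}) (A : Type u) [CommRing A]
    [IsNoetherianRing A] (I : Ideal A) [HenselianRing A I]
    (hreg : CAlg.IsRegularHom A (AdicCompletion I A))
    (F : Under (CommRingCat.of A) ⥤ Type u)
    (hF : ∀ (J : Type u) [SmallCategory J] [IsFiltered J], PreservesColimitsOfShape J F)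
    (c : ℕ)
    (π : Under.mk (CommRingCat.ofHom (algebraMap A (AdicCompletion I A))) ⟶
      Under.mk (CommRingCat.ofHom (algebraMap A (A ⧸ I ^ c))))
    (hπ : π.right = CommRingCat.ofHom
      (AdicCompletion.evalₐ I c : AdicCompletion I A →ₐ[A] A ⧸ I ^ c).toRingHom)
    (ρ : Under.mk (𝟙 (CommRingCat.of A)) ⟶ Under.mk (CommRingCat.ofHom (algebraMap A (A ⧸ I ^ c))))
    (ξ : F.obj (Under.mk (CommRingCat.ofHom (algebraMap A (AdicCompletion I A))))) :
    ∃ η : F.obj (Under.mk (𝟙 (CommRingCat.of A))), F.map ρ η = F.map π ξ :=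
  Groth.Agent.H73.ArtinFunctor.main A I
    (fun k l c f â h => exists_solution_approx' hPop A I hreg k l c f â h) F hF c π hπ ρ ξ

end Groth.Agent.H78.ArtinApx
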