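import Groth.Agent.H78.ArtinApx.EtSol
import Groth.Agent.H46.AlgColimFP

/-!
# Artin approximation on étale neighbourhoods, functor form (from Popescu's theorem)
-/

set_option autoImplicit false
universe u
open CategoryTheory CategoryTheory.Limits

namespace Groth.Agent.H78.ArtinApx

open IsLocalRing

/-- Algebra form: an `A`-algebra map from a finitely presented `A`-algebra to the completion of a
local G-ring can be approximated modulo `m ^ c` by a map to an étale `A`-algebra. -/
theorem exists_etale_algHom_approx (hPop : PopescuHyp.{u}) (A : Type u) [CommRing A]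
    [IsLocalRing A] (hG : CAlg.IsGRing A)
    (B : Type u) [CommRing B] [Algebra A B] [Algebra.FinitePresentation A B]
    (φ : B →ₐ[A] AdicCompletion (maximalIdeal A) A) (c : ℕ) :
    ∃ (A' : Type u) (_ : CommRing A') (_ : Algebra A A') (_ : Algebra.Etale A A')
      (τ : A' →ₐ[A] AdicCompletion (maximalIdeal A) A) (σ : B →ₐ[A] A'),
      ∀ b, AdicCompletion.evalₐ (maximalIdeal A) c (τ (σ b)) =
        AdicCompletion.evalₐ (maximalIdeal A) c (φ b) := by
  haveI : IsNoetherianRing A := hG.1
  obtain ⟨n, f, hsurj, hfg⟩ := Algebra.FinitePresentation.out (R := A) (A := B)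
  obtain ⟨s, hs⟩ := hfg
  let p : Fin s.card → MvPolynomial (Fin n) A :=
    fun i => (s.equivFin.symm i : MvPolynomial (Fin n) A)
  let â : Fin n → AdicCompletion (maximalIdeal A) A := fun j => φ (f (MvPolynomial.X j))
  have haeval : (MvPolynomial.aeval â :
      MvPolynomial (Fin n) A →ₐ[A] AdicCompletion (maximalIdeal A) A) = φ.comp f := by
    apply MvPolynomial.algHom_ext
    intro j
    simp [â]
  have hp : ∀ i, MvPolynomial.aeval â (p i) = 0 := by
    intro i
    rw [haeval]
    have : p i ∈ RingHom.ker f.toRingHom := by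
      rw [← hs]
      exact Ideal.subset_span (s.equivFin.symm i).2
    have h0 : f (p i) = 0 := this
    simp [h0]
  obtain ⟨A', _, _, hEt, τ, m', -, -, -, -, b, hb0, hb⟩ :=
    exists_etale_solution hPop hG p â hp c
  have hker : RingHom.ker f.toRingHom ≤
      RingHom.ker (MvPolynomial.aeval b : MvPolynomial (Fin n) A →ₐ[A] A').toRingHom := by
    rw [← hs, Ideal.span_le]
    intro q hq
    have : q = p (s.equivFin ⟨q, hq⟩) := by simp [p]
    rw [this]
    exact hb0 (s.equivFin ⟨q, hq⟩)
  refine ⟨A', inferInstance, inferInstance, hEt, τ,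
    AlgHom.liftOfSurjective f hsurj (MvPolynomial.aeval b) hker, ?_⟩
  intro x
  obtain ⟨q, rfl⟩ := hsurj x
  rw [AlgHom.liftOfSurjective_apply]
  have h2 : ((AdicCompletion.evalₐ (maximalIdeal A) c).comp (τ.comp (MvPolynomial.aeval b)) :
      MvPolynomial (Fin n) A →ₐ[A] A ⧸ maximalIdeal A ^ c) =
      (AdicCompletion.evalₐ (maximalIdeal A) c).comp (φ.comp f) := by
    apply MvPolynomial.algHom_ext
    intro j
    have h3 := hb j
    rw [← Groth.Agent.H20.ker_evalₐ_eq_map (maximalIdeal A)
      (IsNoetherian.noetherian (maximalIdeal A)) c, RingHom.mem_ker, map_sub, sub_eq_zero] at h3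
    simp only [AlgHom.comp_apply, MvPolynomial.aeval_X]
    exact h3.symm
  exact DFunLike.congr_fun h2 q

/-- **S16106 from Popescu.** -/
theorem functor_etale_approx (hPop : PopescuHyp.{u}) (A : Type u) [CommRing A] [IsLocalRing A]
    (hG : CAlg.IsGRing A)
    (F : Under (CommRingCat.of A) ⥤ Type u)
    (hF : ∀ (J : Type u) [SmallCategory J] [IsFiltered J], PreservesColimitsOfShape J F)
    (c : ℕ)
    (π : Under.mk (CommRingCat.ofHom (algebraMap A (AdicCompletion (maximalIdeal A) A))) ⟶
      Under.mk (CommRingCat.ofHom (algebraMap A (A ⧸ maximalIdeal A ^ c))))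
    (hπ : π.right = CommRingCat.ofHom
      (AdicCompletion.evalₐ (maximalIdeal A) c :
        AdicCompletion (maximalIdeal A) A →ₐ[A] A ⧸ maximalIdeal A ^ c).toRingHom)
    (ξ : F.obj (Under.mk (CommRingCat.ofHom (algebraMap A (AdicCompletion (maximalIdeal A) A))))) :
    ∃ (A' : Type u) (_ : CommRing A') (_ : Algebra A A') (_ : Algebra.Etale A A')
      (φ : Under.mk (CommRingCat.ofHom (algebraMap A A')) ⟶
        Under.mk (CommRingCat.ofHom (algebraMap A (A ⧸ maximalIdeal A ^ c))))
      (ξ' : F.obj (Under.mk (CommRingCat.ofHom (algebraMap A A')))),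
      F.map φ ξ' = F.map π ξ := by
  obtain ⟨I, _, _, D, cc, hcc, hfp, ⟨e⟩⟩ :=
    Groth.Agent.H46.exists_filteredColimit_fp A (AdicCompletion (maximalIdeal A) A)
  haveI := hF I
  have hcol : IsColimit (F.mapCocone cc) := isColimitOfPreserves F hcc
  obtain ⟨i, x, hx⟩ := Types.jointly_surjective_of_isColimit hcol (F.map e.inv ξ)
  letI : Algebra A (D.obj i).right := (D.obj i).hom.hom.toAlgebra
  haveI : Algebra.FinitePresentation A (D.obj i).right := hfp i
  let ψ : D.obj i ⟶ Under.mk (CommRingCat.ofHom
      (algebraMap A (AdicCompletion (maximalIdeal A) A))) := cc.ι.app i ≫ e.hom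
  let φ₀ : (D.obj i).right →ₐ[A] AdicCompletion (maximalIdeal A) A :=
    { ψ.right.hom with
      commutes' := fun r => by
        have := Under.w ψ
        exact DFunLike.congr_fun (congrArg CommRingCat.Hom.hom this) r }
  obtain ⟨A', _, _, hEt, τ, σ, hσ⟩ := exists_etale_algHom_approx hPop A hG (D.obj i).right φ₀ c
  let s : D.obj i ⟶ Under.mk (CommRingCat.ofHom (algebraMap A A')) :=
    Under.homMk (CommRingCat.ofHom σ.toRingHom) (by
      ext r
      exact σ.commutes r)
  let φ : Under.mk (CommRingCat.ofHom (algebraMap A A')) ⟶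
      Under.mk (CommRingCat.ofHom (algebraMap A (A ⧸ maximalIdeal A ^ c))) :=
    Under.homMk (CommRingCat.ofHom ((AdicCompletion.evalₐ (maximalIdeal A) c).comp τ).toRingHom) (by
      ext r
      exact ((AdicCompletion.evalₐ (maximalIdeal A) c).comp τ).commutes r)
  refine ⟨A', inferInstance, inferInstance, hEt, φ, F.map s x, ?_⟩
  have hξ : ξ = F.map ψ x := by
    have h1 : F.map e.hom (F.map e.inv ξ) = ξ := by
      rw [← FunctorToTypes.map_comp_apply, e.inv_hom_id, FunctorToTypes.map_id_apply]
    rw [← h1, ← hx]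
    change _ = F.map (cc.ι.app i ≫ e.hom) x
    rw [FunctorToTypes.map_comp_apply]
    rfl
  rw [hξ, ← FunctorToTypes.map_comp_apply, ← FunctorToTypes.map_comp_apply]
  have key : s ≫ φ = ψ ≫ π := by
    apply Under.UnderMorphism.ext
    rw [Under.comp_right, Under.comp_right, hπ]
    ext b
    change AdicCompletion.evalₐ (maximalIdeal A) c (τ (σ b)) =
      AdicCompletion.evalₐ (maximalIdeal A) c (φ₀ b)
    exact hσ b
  rw [key]

end Groth.Agent.H78.ArtinApx
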