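import Groth.Agent.H78.ArtinApx.Pair
import Groth.Agent.H78.ArtinApx.CommAlgColim

/-!
# `F(A) → F(Â)` is injective, and liftability can be tested on `Â` (from Popescu's theorem)
-/

set_option autoImplicit false
universe u
open CategoryTheory CategoryTheory.Limits

namespace Groth.Agent.H78.ArtinApx

/-- Approximation modulo `I` of maps `B₀ → Â` by maps `B₀ → A`. -/
theorem exists_algHom_approx_one (hPop : PopescuHyp.{u}) (A : Type u) [CommRing A]
    [IsNoetherianRing A] (I : Ideal A) [hI : HenselianRing A I]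
    (hreg : CAlg.IsRegularHom A (AdicCompletion I A))
    (B₀ : Type u) [CommRing B₀] [Algebra A B₀] [Algebra.FinitePresentation A B₀]
    (f : B₀ →ₐ[A] AdicCompletion I A) :
    ∃ φ : B₀ →ₐ[A] A, ∀ x, Ideal.Quotient.mk I (φ x) = AdicCompletion.evalOneₐ I (f x) := by
  haveI : IsNoetherianRing (AdicCompletion I A) := Groth.Agent.H20.isNoetherianRing_adicCompletion _
  obtain ⟨B, _, _, hsm, g, h, hgh⟩ := hPop A (AdicCompletion I A) hreg B₀ f
  let σ₀ : B →ₐ[A] A ⧸ I := (AdicCompletion.evalOneₐ I).comp h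
  obtain ⟨φ', hφ'⟩ :=
    Groth.Agent.H87.SmoothHens.exists_lift_of_smooth_of_henselian (A := A) A hI B σ₀
  refine ⟨φ'.comp g, fun x => ?_⟩
  rw [AlgHom.comp_apply, hφ' (g x)]
  change AdicCompletion.evalOneₐ I (h (g x)) = _
  rw [← AlgHom.comp_apply h g, hgh]

/-- **S15755 from Popescu.** -/
theorem injective_and_lifts (hPop : PopescuHyp.{u}) (A : Type u) [CommRing A]
    [IsNoetherianRing A] (I : Ideal A) [HenselianRing A I]
    (hreg : CAlg.IsRegularHom A (AdicCompletion I A))
    (F : CommAlgCat.{u} A ⥤ Type u) [PreservesFilteredColimitsOfSize.{u, u} F] :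
    Function.Injective (F.map (CommAlgCat.ofHom (Algebra.ofId A (AdicCompletion I A)))) ∧
    ∀ xbar : F.obj (CommAlgCat.of A (A ⧸ I)),
      (∃ x : F.obj (CommAlgCat.of A A),
        F.map (CommAlgCat.ofHom (Ideal.Quotient.mkₐ A I)) x = xbar) ↔
      (∃ y : F.obj (CommAlgCat.of A (AdicCompletion I A)),
        F.map (CommAlgCat.ofHom (AdicCompletion.evalOneₐ I)) y = xbar) := by
  obtain ⟨J, _, _, D, c, hc, hfp, ⟨e⟩⟩ :=
    exists_filteredColimit_fp_commAlgCat A (AdicCompletion I A)
  have hcol : IsColimit (F.mapCocone c) := isColimitOfPreserves F hc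
  -- maps out of the initial object are unique
  have huniq : ∀ {X : CommAlgCat.{u} A} (f g : CommAlgCat.of A A ⟶ X), f = g := by
    intro X f g
    apply CommAlgCat.hom_ext
    exact Algebra.ext_id _ _ _
  let u : ∀ j, CommAlgCat.of A A ⟶ D.obj j := fun j => CommAlgCat.ofHom (Algebra.ofId A (D.obj j))
  let v : ∀ j, D.obj j ⟶ CommAlgCat.of A (AdicCompletion I A) := fun j => c.ι.app j ≫ e.hom
  let ι : CommAlgCat.of A A ⟶ CommAlgCat.of A (AdicCompletion I A) :=
    CommAlgCat.ofHom (Algebra.ofId A (AdicCompletion I A))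
  have hσ : ∀ j, ∃ σ : D.obj j ⟶ CommAlgCat.of A A,
      σ ≫ CommAlgCat.ofHom (Ideal.Quotient.mkₐ A I) =
        v j ≫ CommAlgCat.ofHom (AdicCompletion.evalOneₐ I) := by
    intro j
    haveI : Algebra.FinitePresentation A (D.obj j) := hfp j
    obtain ⟨σ, hσ⟩ := exists_algHom_approx_one hPop A I hreg (D.obj j) (v j).hom
    refine ⟨CommAlgCat.ofHom σ, ?_⟩
    apply CommAlgCat.hom_ext
    apply AlgHom.ext
    intro b
    exact hσ b
  refine ⟨?_, fun xbar => ⟨?_, ?_⟩⟩
  · intro x y hxy
    obtain ⟨j0⟩ := IsFiltered.nonempty (C := J)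
    have h1 : F.map (c.ι.app j0) (F.map (u j0) x) = F.map (c.ι.app j0) (F.map (u j0) y) := by
      have hinj : Function.Injective (F.map e.hom) := by
        intro a b hab
        have := congrArg (F.map e.inv) hab
        rwa [← FunctorToTypes.map_comp_apply, ← FunctorToTypes.map_comp_apply, e.hom_inv_id,
          FunctorToTypes.map_id_apply, FunctorToTypes.map_id_apply] at this
      apply hinj
      rw [← FunctorToTypes.map_comp_apply, ← FunctorToTypes.map_comp_apply,
        ← FunctorToTypes.map_comp_apply, ← FunctorToTypes.map_comp_apply]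
      have h2 : u j0 ≫ c.ι.app j0 ≫ e.hom = ι := huniq _ _
      rw [h2]
      exact hxy
    obtain ⟨k, f, g, hfg⟩ :=
      (Types.FilteredColimit.isColimit_eq_iff (D ⋙ F) hcol).mp h1
    change F.map (D.map f) (F.map (u j0) x) = F.map (D.map g) (F.map (u j0) y) at hfg
    rw [← FunctorToTypes.map_comp_apply, ← FunctorToTypes.map_comp_apply,
      huniq (u j0 ≫ D.map f) (u k), huniq (u j0 ≫ D.map g) (u k)] at hfg
    obtain ⟨σ, -⟩ := hσ k
    have h3 := congrArg (F.map σ) hfg
    rw [← FunctorToTypes.map_comp_apply, ← FunctorToTypes.map_comp_apply,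
      huniq (u k ≫ σ) (𝟙 _), FunctorToTypes.map_id_apply, FunctorToTypes.map_id_apply] at h3
    exact h3
  · rintro ⟨x, rfl⟩
    refine ⟨F.map ι x, ?_⟩
    rw [← FunctorToTypes.map_comp_apply]
    rw [huniq (ι ≫ CommAlgCat.ofHom (AdicCompletion.evalOneₐ I))
      (CommAlgCat.ofHom (Ideal.Quotient.mkₐ A I))]
  · rintro ⟨y, rfl⟩
    obtain ⟨j, z, hz⟩ := Types.jointly_surjective_of_isColimit hcol (F.map e.inv y)
    have hy : y = F.map (v j) z := by
      have h1 : F.map e.hom (F.map e.inv y) = y := by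
        rw [← FunctorToTypes.map_comp_apply, e.inv_hom_id, FunctorToTypes.map_id_apply]
      rw [← h1, ← hz]
      change _ = F.map (c.ι.app j ≫ e.hom) z
      rw [FunctorToTypes.map_comp_apply]
      rfl
    obtain ⟨σ, hσ'⟩ := hσ j
    refine ⟨F.map σ z, ?_⟩
    rw [hy, ← FunctorToTypes.map_comp_apply, ← FunctorToTypes.map_comp_apply, hσ']

end Groth.Agent.H78.ArtinApx
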