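import Groth.Prelude.Def_Found
import Mathlib

/-!
# Popescu's theorem as a hypothesis

`PopescuHyp.{u}` is (verbatim) the statement of milestone S0595 (Popescu's theorem in
factorization form).  The Artin-approximation consequences in this directory are proved
against this hypothesis, so that they can be assembled as soon as S0595 is available.
-/

set_option autoImplicit false
universe u

namespace Groth.Agent.H78.ArtinApx

/-- The statement of Popescu's theorem (S0595), as a proposition. -/
def PopescuHyp : Prop :=
  ∀ (R : Type u) [CommRing R] [IsNoetherianRing R] (Λ : Type u)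
    [CommRing Λ] [IsNoetherianRing Λ] [Algebra R Λ] (_ : CAlg.IsRegularHom R Λ) (A : Type u)
    [CommRing A] [Algebra R A] [Algebra.FinitePresentation R A] (f : A →ₐ[R] Λ),
    ∃ (B : Type u) (_ : CommRing B) (_ : Algebra R B), Algebra.Smooth R B ∧
      ∃ (g : A →ₐ[R] B) (h : B →ₐ[R] Λ), h.comp g = f

end Groth.Agent.H78.ArtinApx
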