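import Groth.Agent.H72.HensFormalFibres
import Groth.Agent.H26.RegHomBaseChange
import Groth.Agent.H26.RegHomDescent
import Groth.Agent.H26.SkFlat
import Groth.Agent.H72.HensGRing

/-!
# Cancellation of unions of étale images in regular homomorphisms

If `A → S` is a union of étale images, `S → T` is flat with `T` Noetherian and `A → T` is regular,
then `S → T` is regular.  (Generalization of `Groth.Agent.H72.HensFormalFibres.core_of_surjective`
from `T = Ŝ` to an arbitrary `S`-algebra `T`.)
-/

set_option autoImplicit false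
set_option linter.style.haveILetI false
universe u

open TensorProduct Groth.Agent.H14.HensProp

namespace Groth.Agent.H78.ArtinApx

attribute [local instance] RingHom.ker_isPrime

section Core

variable (Q : ∀ (X : Type u) [CommRing X], Prop)
  (hQe : ∀ (X Y : Type u) [CommRing X] [CommRing Y], (X ≃+* Y) → Q X → Q Y)
  (hQl : ∀ (X Y : Type u) [CommRing X] [CommRing Y] [Algebra X Y] (M : Submonoid X)
    [IsLocalization M Y], Q X → Q Y)

variable {A S : Type u} [CommRing A] [CommRing S] [Algebra A S]
  (T : Type u) [CommRing T] [Algebra S T] [Algebra A T] [IsScalarTower A S T]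

set_option backward.isDefEq.respectTransparency false in
include hQe hQl in
/-- Abstract form of the key localization statement, for an arbitrary `S`-algebra `T`. -/
theorem core_of_surjective'
    (hU : ∀ x : S, InEtImage A S {x})
    (k' : Type u) [Field k'] [Algebra S k'] [Algebra A k'] [IsScalarTower A S k']
    (K : Type u) [Field K] [Algebra A K] [Algebra K k'] [IsScalarTower A K k']
    (hsurj : Function.Surjective (Algebra.TensorProduct.lift (Algebra.ofId K k')
      (IsScalarTower.toAlgHom A S k') (fun _ _ => Commute.all _ _) : K ⊗[A] S →ₐ[K] k'))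
    (hQ0 : Q (K ⊗[A] T)) :
    Q (k' ⊗[S] T) := by
  let c : S ⊗[A] K ≃ₐ[A] K ⊗[A] S := Algebra.TensorProduct.comm A S K
  let π' : S ⊗[A] K →ₐ[S] k' :=
    Algebra.TensorProduct.lift (Algebra.ofId S k') (IsScalarTower.toAlgHom A K k')
      (fun _ _ => Commute.all _ _)
  have hπ' : ∀ g, π' g = (Algebra.TensorProduct.lift (Algebra.ofId K k')
      (IsScalarTower.toAlgHom A S k') (fun _ _ => Commute.all _ _) : K ⊗[A] S →ₐ[K] k') (c g) := by
    intro g
    induction g using TensorProduct.induction_on with
    | zero => simp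
    | tmul s x =>
      simp [π', c, mul_comm]
    | add x y hx hy =>
      rw [map_add π' x y, map_add c x y, map_add _ (c x) (c y), hx, hy]
  have hπ'surj : Function.Surjective π' := by
    intro z
    obtain ⟨g, hg⟩ := hsurj z
    exact ⟨c.symm g, by rw [hπ', c.apply_symm_apply, hg]⟩
  have hvnr : ∀ g : S ⊗[A] K, ∃ y, g * g * y = g := by
    intro g
    obtain ⟨y, hy⟩ := exists_mul_mul_eq_of_inEtImage
      (inEtImage_baseChange A S hU K) (c g)
    refine ⟨c.symm y, c.injective ?_⟩
    rw [map_mul c, map_mul c, c.apply_symm_apply, hy]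
  letI algG : Algebra (S ⊗[A] K) k' := π'.toRingHom.toAlgebra
  haveI : IsScalarTower S (S ⊗[A] K) k' :=
    IsScalarTower.of_algebraMap_eq (fun s => (π'.commutes s).symm)
  haveI hloc : IsLocalization (RingHom.ker (algebraMap (S ⊗[A] K) k')).primeCompl k' :=
    Groth.Agent.H72.HensFormalFibres.isLocalization_of_vnr hvnr hπ'surj
  let e_c := (Algebra.TensorProduct.comm A K T).toRingEquiv
  let e_d := (Algebra.TensorProduct.cancelBaseChange A S S T K).symm.toRingEquiv
  let e_e := (Algebra.TensorProduct.comm S T (S ⊗[A] K)).toRingEquiv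
  have hQT : Q ((S ⊗[A] K) ⊗[S] T) :=
    hQe _ _ ((e_c.trans e_d).trans e_e) hQ0
  haveI hlocT : IsLocalization
      (Algebra.algebraMapSubmonoid ((S ⊗[A] K) ⊗[S] T)
        (RingHom.ker (algebraMap (S ⊗[A] K) k')).primeCompl)
      (((S ⊗[A] K) ⊗[S] T) ⊗[S ⊗[A] K] k') :=
    IsLocalization.tensor k' (RingHom.ker (algebraMap (S ⊗[A] K) k')).primeCompl
  have hQ1 : Q (((S ⊗[A] K) ⊗[S] T) ⊗[S ⊗[A] K] k') :=
    hQl _ _ (Algebra.algebraMapSubmonoid ((S ⊗[A] K) ⊗[S] T)
        (RingHom.ker (algebraMap (S ⊗[A] K) k')).primeCompl) hQT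
  let e_f := (Algebra.TensorProduct.comm (S ⊗[A] K) ((S ⊗[A] K) ⊗[S] T) k').toRingEquiv
  let e_g := (Algebra.TensorProduct.cancelBaseChange S (S ⊗[A] K) (S ⊗[A] K) k' T).toRingEquiv
  exact hQe _ _ (e_f.trans e_g) hQ1

end Core

set_option backward.isDefEq.respectTransparency false in
/-- **Cancellation.** If `A → S` is a union of étale images, `S → T` is flat with `T` Noetherian
and `A → T` is regular, then `S → T` is regular. -/
theorem isRegularHom_of_inEtImage_cancel (A S T : Type u) [CommRing A] [CommRing S] [CommRing T]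
    [Algebra A S] [Algebra S T] [Algebra A T] [IsScalarTower A S T] [IsNoetherianRing T]
    [Module.Flat S T] (hU : ∀ x : S, InEtImage A S {x}) (hreg : CAlg.IsRegularHom A T) :
    CAlg.IsRegularHom S T := by
  refine ⟨inferInstance, fun q hq => ?_⟩
  haveI hN : IsNoetherianRing (q.Fiber T) := Groth.Agent.H26.SkFlat.isNoetherianRing_fiber T q
  refine ⟨hN, fun k' _ _ hfin => ?_⟩
  haveI := hfin
  letI algS : Algebra S k' :=
    ((algebraMap q.ResidueField k').comp (algebraMap S q.ResidueField)).toAlgebra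
  haveI : IsScalarTower S q.ResidueField k' := IsScalarTower.of_algebraMap_eq (fun x => rfl)
  letI algA : Algebra A k' := ((algebraMap S k').comp (algebraMap A S)).toAlgebra
  haveI : IsScalarTower A S k' := IsScalarTower.of_algebraMap_eq (fun x => rfl)
  obtain ⟨P₀, hP₀, algP, towerP⟩ :=
    Groth.Agent.H26.RegHomBaseChange.exists_residueField_algebra' (R := A) k'
  obtain ⟨k'', hfd, hsurj⟩ :=
    Groth.Agent.H72.HensFormalFibres.exists_finite_subfield_surjective (A := A) q k' P₀ hU
  have hQ0 : IsRegularRing (k'' ⊗[P₀.ResidueField] (P₀.Fiber T)) := (hreg.2 P₀).2 k'' hfd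
  let e_a := (Groth.Agent.H26.RegHomDescent.tensorFiberEquiv A T k'' P₀).symm
  have hQ0' : IsRegularRing (k'' ⊗[A] T) := @IsRegularRing.of_ringEquiv _ _ _ _ e_a hQ0
  have hQ1 : IsRegularRing (k' ⊗[S] T) :=
    core_of_surjective' (fun X _ => IsRegularRing X)
      (fun X Y _ _ e h => @IsRegularRing.of_ringEquiv _ _ _ _ e h)
      (fun X Y _ _ _ M _ h => Groth.Agent.H72.HensGRing.isRegularRing_of_isLocalization X Y M h)
      T hU k' k'' hsurj hQ0'
  let e_h := Groth.Agent.H26.RegHomDescent.tensorFiberEquiv S T k' q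
  exact @IsRegularRing.of_ringEquiv _ _ _ _ e_h hQ1

end Groth.Agent.H78.ArtinApx
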