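import Groth.Agent.H78.ArtinApx.EtSolLocGen

/-!
# Approximating a ring map `B → L̂` by a map `B → C'` to an étale `C`-algebra, at a prime of `C`
-/

set_option autoImplicit false
set_option linter.style.haveILetI false
universe u

namespace Groth.Agent.H78.ArtinApx

open IsLocalRing TensorProduct

/-- elements of `𝔪 L̂` are in the Jacobson radical; a unit plus such an element is a unit -/
theorem isUnit_add_of_mem_map_maximalIdeal {L : Type u} [CommRing L] [IsLocalRing L]
    [IsNoetherianRing L]
    {x y : AdicCompletion (maximalIdeal L) L} (hx : IsUnit x)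
    (hy : y ∈ (maximalIdeal L).map (algebraMap L (AdicCompletion (maximalIdeal L) L))) :
    IsUnit (x + y) := by
  have hfg : (maximalIdeal L).FG := IsNoetherian.noetherian _
  haveI : IsAdicComplete ((maximalIdeal L).map
      (algebraMap L (AdicCompletion (maximalIdeal L) L))) (AdicCompletion (maximalIdeal L) L) :=
    AdicCompletion.isAdicComplete_self _ hfg
  have hj := IsAdicComplete.le_jacobson_bot ((maximalIdeal L).map
      (algebraMap L (AdicCompletion (maximalIdeal L) L)))
  have hy' := hj hy
  obtain ⟨u, rfl⟩ := hx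
  have h1 : (u : AdicCompletion (maximalIdeal L) L) + y =
      u * (1 + (↑u⁻¹ : AdicCompletion (maximalIdeal L) L) * y) := by
    rw [mul_add, mul_one, ← mul_assoc, Units.mul_inv, one_mul]
  rw [h1]
  refine u.isUnit.mul ?_
  have h2 := (Ideal.mem_jacobson_bot.mp hy') (↑u⁻¹)
  rwa [mul_comm, add_comm] at h2

/-- **Local approximation, ring-hom form.**  `B` finitely presented over `A₀` (via `α`), `C` a
Noetherian `A₀`-algebra (via `γ`), `p` a prime of `C` whose local ring `L` is a G-ring, and
`φ₀ : B → L̂` a ring map compatible with `A₀`.  Then `φ₀` is approximated to order `N` by a ring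
map `g : B → C'` into an étale `C`-algebra with a prime `p'` over `p` with trivial residue field
extension, together with a `C`-map `ψ : C' → L̂`. -/
theorem exists_etale_approx_ringHom (hPop : PopescuHyp.{u}) {A₀ B C : Type u} [CommRing A₀]
    [CommRing B] [CommRing C] [IsNoetherianRing C] (α : A₀ →+* B) (hα : α.FinitePresentation)
    (γ : A₀ →+* C) (p : Ideal C) [p.IsPrime] (L : Type u) [CommRing L] [IsLocalRing L]
    [Algebra C L] [IsLocalization.AtPrime L p] (hG : CAlg.IsGRing L)
    (φ₀ : B →+* AdicCompletion (maximalIdeal L) L)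
    (hφ₀ : ∀ a, φ₀ (α a) =
      algebraMap L (AdicCompletion (maximalIdeal L) L) (algebraMap C L (γ a))) (N : ℕ) :
    ∃ (C' : Type u) (_ : CommRing C') (_ : Algebra C C'), Algebra.Etale C C' ∧
      ∃ (ψ : C' →+* AdicCompletion (maximalIdeal L) L) (p' : Ideal C') (g : B →+* C'),
        p'.IsPrime ∧
        (∀ c : C, ψ (algebraMap C C' c) =
          algebraMap L (AdicCompletion (maximalIdeal L) L) (algebraMap C L c)) ∧
        p'.comap (algebraMap C C') = p ∧
        (∀ x : C', ∃ r s : C, s ∉ p ∧ algebraMap C C' s * x - algebraMap C C' r ∈ p') ∧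
        (∀ x ∈ p', ψ x ∈ (maximalIdeal L).map
          (algebraMap L (AdicCompletion (maximalIdeal L) L))) ∧
        (∀ x, x ∉ p' → IsUnit (ψ x)) ∧
        (∀ a : A₀, g (α a) = algebraMap C C' (γ a)) ∧
        ∀ b : B, φ₀ b - ψ (g b) ∈ (maximalIdeal L ^ N).map
          (algebraMap L (AdicCompletion (maximalIdeal L) L)) := by
  classical
  haveI : IsNoetherianRing L := hG.1
  letI algAB : Algebra A₀ B := α.toAlgebra
  haveI : Algebra.FinitePresentation A₀ B := hα
  have hαalg : ∀ a, algebraMap A₀ B a = α a := fun a => rfl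
  obtain ⟨n, π, hsurj, hfg⟩ := Algebra.FinitePresentation.out (R := A₀) (A := B)
  obtain ⟨s, hs⟩ := hfg
  let pp : Fin s.card → MvPolynomial (Fin n) A₀ :=
    fun i => (s.equivFin.symm i : MvPolynomial (Fin n) A₀)
  let F : Fin s.card → MvPolynomial (Fin n) C := fun j => MvPolynomial.map γ (pp j)
  let a : Fin n → AdicCompletion (maximalIdeal L) L := fun i => φ₀ (π (MvPolynomial.X i))
  let can : L →+* AdicCompletion (maximalIdeal L) L := algebraMap L _
  -- evaluation identity
  have key : ∀ q : MvPolynomial (Fin n) A₀,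
      MvPolynomial.aeval a (MvPolynomial.map (algebraMap C L) (MvPolynomial.map γ q)) =
        φ₀ (π q) := by
    intro q
    have h1 : ((MvPolynomial.aeval a : MvPolynomial (Fin n) L →ₐ[L] _).toRingHom.comp
        ((MvPolynomial.map (algebraMap C L)).comp (MvPolynomial.map γ))) =
        φ₀.comp π.toRingHom := by
      apply MvPolynomial.ringHom_ext
      · intro r
        simp only [RingHom.coe_comp, Function.comp_apply, MvPolynomial.map_C, AlgHom.toRingHom_eq_coe,
          RingHom.coe_coe, MvPolynomial.aeval_C]
        rw [← MvPolynomial.algebraMap_eq, AlgHom.commutes, hαalg, hφ₀]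
      · intro i
        simp [a]
    exact RingHom.congr_fun h1 q
  have hpp : ∀ j, π (pp j) = 0 := by
    intro j
    have : pp j ∈ RingHom.ker π.toRingHom := by
      rw [← hs]
      exact Ideal.subset_span (s.equivFin.symm j).2
    exact this
  have ha : ∀ j, MvPolynomial.aeval a (MvPolynomial.map (algebraMap C L) (F j)) = 0 := by
    intro j
    rw [key, hpp, map_zero]
  obtain ⟨C', _, _, hEt, ψ, p', hp', hψC, hcomap, hres, hψp', b, hb0, hb⟩ :=
    exists_etale_solution_isLocalization hPop p L hG F a ha N
  -- the map `g`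
  let G₀ : MvPolynomial (Fin n) A₀ →+* C' := MvPolynomial.eval₂Hom ((algebraMap C C').comp γ) b
  have hG₀ : ∀ q, G₀ q = MvPolynomial.aeval b (MvPolynomial.map γ q) := by
    intro q
    rw [MvPolynomial.aeval_def, MvPolynomial.eval₂_map]
    rfl
  have hker : RingHom.ker π.toRingHom ≤ RingHom.ker G₀ := by
    rw [← hs, Ideal.span_le]
    intro q hq
    have h1 : q = pp (s.equivFin ⟨q, hq⟩) := by simp [pp]
    rw [SetLike.mem_coe, RingHom.mem_ker, hG₀, h1]
    exact hb0 _
  let g : B →+* C' := RingHom.liftOfSurjective π.toRingHom hsurj ⟨G₀, hker⟩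
  have hg : ∀ q, g (π q) = G₀ q := fun q =>
    RingHom.liftOfSurjective_comp_apply π.toRingHom hsurj ⟨G₀, hker⟩ q
  have hunit : ∀ x, x ∉ p' → IsUnit (ψ x) := by
    intro x hx
    obtain ⟨r, t, ht, hrt⟩ := hres x
    have hr : r ∉ p := by
      intro hr
      have h1 : algebraMap C C' r ∈ p' := by
        have : r ∈ p'.comap (algebraMap C C') := by rw [hcomap]; exact hr
        exact this
      have h2 : algebraMap C C' t * x ∈ p' := by
        have := p'.add_mem hrt h1
        rwa [sub_add_cancel] at this
      rcases hp'.mem_or_mem h2 with h3 | h3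
      · have : t ∈ p'.comap (algebraMap C C') := h3
        rw [hcomap] at this
        exact ht this
      · exact hx h3
    have h1 : IsUnit (ψ (algebraMap C C' r)) := by
      rw [hψC]
      exact (IsLocalization.map_units L (⟨r, hr⟩ : p.primeCompl)).map _
    have h2 := isUnit_add_of_mem_map_maximalIdeal h1 (hψp' _ hrt)
    rw [← map_add, add_sub_cancel, map_mul] at h2
    exact isUnit_of_mul_isUnit_right h2
  refine ⟨C', inferInstance, inferInstance, hEt, ψ, p', g, hp', hψC, hcomap, hres, hψp', hunit,
    ?_, ?_⟩
  · intro r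
    have h1 : α r = π (MvPolynomial.C r) := by
      rw [← MvPolynomial.algebraMap_eq, AlgHom.commutes]; rfl
    rw [h1, hg]
    simp [G₀]
  · intro b₀
    obtain ⟨q, rfl⟩ := hsurj b₀
    rw [hg]
    set K : Ideal (AdicCompletion (maximalIdeal L) L) :=
      (maximalIdeal L ^ N).map (algebraMap L (AdicCompletion (maximalIdeal L) L)) with hK
    have h1 : ((Ideal.Quotient.mk K).comp (φ₀.comp π.toRingHom)) =
        (Ideal.Quotient.mk K).comp (ψ.comp G₀) := by
      apply MvPolynomial.ringHom_ext
      · intro r
        simp only [RingHom.coe_comp, Function.comp_apply, AlgHom.toRingHom_eq_coe,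
          RingHom.coe_coe]
        congr 1
        rw [← MvPolynomial.algebraMap_eq, AlgHom.commutes, hαalg, hφ₀]
        simp [G₀, hψC]
      · intro i
        simp only [RingHom.coe_comp, Function.comp_apply, AlgHom.toRingHom_eq_coe,
          RingHom.coe_coe]
        rw [Ideal.Quotient.eq]
        have : G₀ (MvPolynomial.X i) = b i := by simp [G₀]
        rw [this]
        exact hb i
    have h2 := RingHom.congr_fun h1 q
    simp only [RingHom.coe_comp, Function.comp_apply, AlgHom.toRingHom_eq_coe,
      RingHom.coe_coe] at h2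
    exact Ideal.Quotient.eq.mp h2

end Groth.Agent.H78.ArtinApx
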