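import Mathlib
import Groth.Prelude.Def_Found

/-!
# A congruence lemma for local homomorphisms inducing isomorphisms on truncations
-/

set_option autoImplicit false
set_option linter.style.haveILetI false
universe u

namespace Groth.Agent.H78.ArtinApx

open IsLocalRing

/-- Let `εX : OX → OU` be a ring map of local rings with `𝔪_X OU = 𝔪_U` and
`OX → OU/𝔪_U^N` surjective, `ψl : OU → ÔX` a retraction of the completion map along `εX`,
and `φ : OY → ÔX`, `εY : OY → OU` ring maps with `φ ≡ ψl ∘ εY` modulo `𝔪_X^N`.  Then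
`εY b ≡ εX c` modulo `𝔪_U^N` whenever `c` represents the `N`-th truncation of `φ b`. -/
theorem congr_of_retraction {OX OU OY : Type u} [CommRing OX] [IsLocalRing OX] [CommRing OU]
    [IsLocalRing OU] [CommRing OY] (εX : OX →+* OU) (εY : OY →+* OU) (N : ℕ)
    (hsurj : ∀ z : OU, ∃ c₀ : OX, z - εX c₀ ∈ maximalIdeal OU ^ N)
    (hmax : (maximalIdeal OX).map εX = maximalIdeal OU)
    (φ : OY →+* AdicCompletion (maximalIdeal OX) OX)
    (ψl : OU →+* AdicCompletion (maximalIdeal OX) OX)
    (h1 : ∀ c, ψl (εX c) = algebraMap OX (AdicCompletion (maximalIdeal OX) OX) c)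
    (h2 : ∀ b, φ b - ψl (εY b) ∈ (maximalIdeal OX ^ N).map
      (algebraMap OX (AdicCompletion (maximalIdeal OX) OX)))
    (b : OY) (c : OX)
    (hbc : AdicCompletion.evalₐ (maximalIdeal OX) N (φ b) =
      Ideal.Quotient.mk (maximalIdeal OX ^ N) c) :
    Ideal.Quotient.mk (maximalIdeal OU ^ N) (εY b) =
      Ideal.Quotient.mk (maximalIdeal OU ^ N) (εX c) := by
  set can : OX →+* AdicCompletion (maximalIdeal OX) OX := algebraMap OX _ with hcan
  -- the kernel of the truncation contains `𝔪^N ÔX`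
  have hker : ∀ y ∈ (maximalIdeal OX ^ N).map can,
      AdicCompletion.evalₐ (maximalIdeal OX) N y = 0 := by
    intro y hy
    have hle : (maximalIdeal OX ^ N).map can ≤
        RingHom.ker (AdicCompletion.evalₐ (maximalIdeal OX) N).toRingHom := by
      rw [Ideal.map_le_iff_le_comap]
      intro x hx
      rw [Ideal.mem_comap, RingHom.mem_ker]
      change AdicCompletion.evalₐ (maximalIdeal OX) N (AdicCompletion.of _ _ x) = 0
      rw [AdicCompletion.evalₐ_of]
      exact Ideal.Quotient.eq_zero_iff_mem.mpr hx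
    exact hle hy
  have hpow : maximalIdeal OU ^ N = (maximalIdeal OX ^ N).map εX := by
    rw [Ideal.map_pow, hmax]
  obtain ⟨c₀, hc₀⟩ := hsurj (εY b)
  -- `ψl` maps `𝔪_U^N` into `𝔪_X^N ÔX`
  have h3 : ψl (εY b - εX c₀) ∈ (maximalIdeal OX ^ N).map can := by
    rw [hpow] at hc₀
    have hle : (maximalIdeal OX ^ N).map εX ≤ ((maximalIdeal OX ^ N).map can).comap ψl := by
      rw [Ideal.map_le_iff_le_comap]
      intro x hx
      rw [Ideal.mem_comap, Ideal.mem_comap, h1]
      exact Ideal.mem_map_of_mem _ hx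
    exact hle hc₀
  have h4 : AdicCompletion.evalₐ (maximalIdeal OX) N (φ b) =
      Ideal.Quotient.mk (maximalIdeal OX ^ N) c₀ := by
    have e1 := hker _ (h2 b)
    have e2 := hker _ h3
    rw [map_sub, sub_eq_zero] at e1
    rw [map_sub, map_sub, h1, sub_eq_zero] at e2
    rw [e1, e2]
    change AdicCompletion.evalₐ (maximalIdeal OX) N (AdicCompletion.of _ _ c₀) = _
    rw [AdicCompletion.evalₐ_of]
  have h5 : c - c₀ ∈ maximalIdeal OX ^ N := Ideal.Quotient.eq.mp (hbc.symm.trans h4)
  have h6 : εX c - εX c₀ ∈ maximalIdeal OU ^ N := by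
    rw [hpow, ← map_sub]
    exact Ideal.mem_map_of_mem _ h5
  rw [Ideal.Quotient.eq]
  have : εY b - εX c = (εY b - εX c₀) - (εX c - εX c₀) := by ring
  rw [this]
  exact Ideal.sub_mem _ hc₀ h6

end Groth.Agent.H78.ArtinApx
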