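import Groth.Agent.H78.ArtinApx.Hyp
import Groth.Agent.H87.SmoothLiftHens
import Groth.Agent.H10.HenselRadical
import Groth.Agent.H20.AdicQuot
import Groth.Agent.H20.ComplNoeth2

/-!
# Artin approximation for henselian pairs (from Popescu's theorem)

Let `A` be Noetherian, henselian along `I`, with `A → Â` regular.  Assuming Popescu's theorem
(`PopescuHyp`), every `A`-algebra map from a finitely presented `A`-algebra to `Â` can be
approximated to any `I`-adic order by an `A`-algebra map to `A`.
-/

set_option autoImplicit false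
universe u

namespace Groth.Agent.H78.ArtinApx

/-- Approximation of maps `B₀ → Â` by maps `B₀ → A`, `B₀` finitely presented. -/
theorem exists_algHom_approx (hPop : PopescuHyp.{u}) (A : Type u) [CommRing A] [IsNoetherianRing A]
    (I : Ideal A) [hI : HenselianRing A I] (hreg : CAlg.IsRegularHom A (AdicCompletion I A))
    (B₀ : Type u) [CommRing B₀] [Algebra A B₀] [Algebra.FinitePresentation A B₀]
    (f : B₀ →ₐ[A] AdicCompletion I A) (N : ℕ) :
    ∃ φ : B₀ →ₐ[A] A, ∀ x, AdicCompletion.evalₐ I (N + 1) (f x) =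
      Ideal.Quotient.mk (I ^ (N + 1)) (φ x) := by
  haveI : IsNoetherianRing (AdicCompletion I A) := Groth.Agent.H20.isNoetherianRing_adicCompletion _
  obtain ⟨B, _, _, hsm, g, h, hgh⟩ := hPop A (AdicCompletion I A) hreg B₀ f
  have hens : HenselianRing A (I ^ (N + 1)) :=
    Groth.Agent.H10.henselianRing_of_radical_eq
      (Ideal.radical_pow I (Nat.succ_ne_zero N)).symm hI
  let σ₀ : B →ₐ[A] A ⧸ I ^ (N + 1) := (AdicCompletion.evalₐ I (N + 1)).comp h
  obtain ⟨φ', hφ'⟩ :=
    Groth.Agent.H87.SmoothHens.exists_lift_of_smooth_of_henselian (A := A) A hens B σ₀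
  refine ⟨φ'.comp g, fun x => ?_⟩
  rw [AlgHom.comp_apply, hφ' (g x)]
  change _ = AdicCompletion.evalₐ I (N + 1) (h (g x))
  rw [← AlgHom.comp_apply h g, hgh]

/-- Approximation of solutions of polynomial systems. -/
theorem exists_solution_approx (hPop : PopescuHyp.{u}) (A : Type u) [CommRing A]
    [IsNoetherianRing A] (I : Ideal A) [HenselianRing A I]
    (hreg : CAlg.IsRegularHom A (AdicCompletion I A)) (n m : ℕ)
    (F : Fin m → MvPolynomial (Fin n) A) (a : Fin n → AdicCompletion I A)
    (ha : ∀ j, MvPolynomial.aeval a (F j) = 0) (N : ℕ) :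
    ∃ b : Fin n → A, (∀ j, MvPolynomial.eval b (F j) = 0) ∧
      ∀ i, a i - algebraMap A (AdicCompletion I A) (b i) ∈
        (I ^ N).map (algebraMap A (AdicCompletion I A)) := by
  classical
  let J : Ideal (MvPolynomial (Fin n) A) := Ideal.span (Set.range F)
  have hJfg : J.FG := Submodule.fg_span (Set.finite_range F)
  haveI : Algebra.FinitePresentation A (MvPolynomial (Fin n) A ⧸ J) :=
    Algebra.FinitePresentation.quotient hJfg
  have hJ : ∀ x ∈ J, MvPolynomial.aeval a x = 0 := by
    intro x hx
    have : J ≤ RingHom.ker (MvPolynomial.aeval a : MvPolynomial (Fin n) A →ₐ[A] _) := by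
      rw [Ideal.span_le]
      rintro _ ⟨j, rfl⟩
      exact ha j
    exact this hx
  let f : (MvPolynomial (Fin n) A ⧸ J) →ₐ[A] AdicCompletion I A :=
    Ideal.Quotient.liftₐ J (MvPolynomial.aeval a) hJ
  obtain ⟨φ, hφ⟩ := exists_algHom_approx hPop A I hreg _ f N
  let b : Fin n → A := fun i => φ (Ideal.Quotient.mk J (MvPolynomial.X i))
  have hb : ∀ p : MvPolynomial (Fin n) A, φ (Ideal.Quotient.mk J p) = MvPolynomial.eval b p := by
    intro p
    have h1 : (φ.comp (Ideal.Quotient.mkₐ A J)) = MvPolynomial.aeval b := by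
      apply MvPolynomial.algHom_ext
      intro i
      simp [b]
    have h2 := AlgHom.congr_fun h1 p
    rw [MvPolynomial.aeval_def, Algebra.algebraMap_self, MvPolynomial.eval₂_id] at h2
    exact h2
  refine ⟨b, fun j => ?_, fun i => ?_⟩
  · have h0 : Ideal.Quotient.mk J (F j) = 0 :=
      Ideal.Quotient.eq_zero_iff_mem.mpr (Ideal.subset_span (Set.mem_range_self j))
    rw [← hb, h0, map_zero]
  · have hle : (I ^ (N + 1)).map (algebraMap A (AdicCompletion I A)) ≤
        (I ^ N).map (algebraMap A (AdicCompletion I A)) :=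
      Ideal.map_mono (Ideal.pow_le_pow_right (Nat.le_succ N))
    apply hle
    rw [← Groth.Agent.H20.ker_evalₐ_eq_map I (IsNoetherian.noetherian I) (N + 1), RingHom.mem_ker,
      map_sub, sub_eq_zero]
    have h1 := hφ (Ideal.Quotient.mk J (MvPolynomial.X i))
    have h2 : f (Ideal.Quotient.mk J (MvPolynomial.X i)) = a i := by
      change Ideal.Quotient.liftₐ J (MvPolynomial.aeval a) hJ (Ideal.Quotient.mk J _) = _
      rw [Ideal.Quotient.liftₐ_apply]
      erw [Ideal.Quotient.lift_mk]
      simp
    rw [h2] at h1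
    change AdicCompletion.evalₐ I (N + 1) (a i) =
      AdicCompletion.evalₐ I (N + 1) (algebraMap A (AdicCompletion I A) (b i))
    rw [h1, AlgHom.commutes]
    rfl

end Groth.Agent.H78.ArtinApx
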