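import Groth.Agent.H78.ArtinApx.PairHensReg
import Groth.Agent.H78.ArtinApx.Pair
import Groth.Agent.H3.EtNbhdImage
import Groth.Agent.S2051

/-!
# Approximation of maps to an adic completion by maps to an étale neighbourhood of the pair
-/

set_option autoImplicit false
set_option linter.style.haveILetI false
universe u

open TensorProduct

namespace Groth.Agent.H78.ArtinApx

open Hens2 Groth.Agent.H3

/-- products of elements congruent to `1` are congruent to `1` -/
theorem prod_sub_one_mem {R : Type*} [CommRing R] (K : Ideal R) {ι : Type*} (s : Finset ι)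
    (k : ι → R) (hk : ∀ i ∈ s, k i - 1 ∈ K) : (∏ i ∈ s, k i) - 1 ∈ K := by
  refine Finset.prod_induction k (fun x => x - 1 ∈ K) ?_ ?_ hk
  · intro a b ha hb
    have : a * b - 1 = a * (b - 1) + (a - 1) := by ring
    rw [this]
    exact K.add_mem (K.mul_mem_left _ hb) ha
  · simp

/-- Descent of an algebra map `B → H` (with `B` finitely presented over `A`) from the
henselization `H` of the pair `(C, J)` to an étale neighbourhood of `(C, J)`. -/
theorem exists_nbhd_descent {A : Type u} [CommRing A] {B : Type u} [CommRing B] [Algebra A B]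
    [Algebra.FinitePresentation A B] {C : Type u} [CommRing C] [Algebra A C] {J : Ideal C}
    {H : Type u} [CommRing H] [Algebra C H] [Algebra A H] [IsScalarTower A C H]
    (hH : IsPairHenselization C J H) (ψH : B →ₐ[A] H) :
    ∃ (C' : Type u) (_ : CommRing C') (_ : Algebra C C') (_ : Algebra A C')
      (_ : IsScalarTower A C C') (_ : EtNbhd.IsNbhd J C') (τ : C' →ₐ[C] H) (ψ : B →ₐ[A] C'),
      ∀ b, τ (ψ b) = ψH b := by
  classical
  obtain ⟨n, p, hsurj, hfg⟩ := Algebra.FinitePresentation.out (R := A) (A := B)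
  obtain ⟨s, hs⟩ := hfg
  let h : Fin n → H := fun i => ψH (p (MvPolynomial.X i))
  obtain ⟨C₁, _, _, hN₁, τ₁, hτ₁⟩ := EtNbhd.inImage_finset hH (Finset.univ.image h)
  have hc : ∀ i, ∃ c : C₁, τ₁ c = h i := fun i =>
    hτ₁ (Finset.mem_coe.mpr (Finset.mem_image_of_mem h (Finset.mem_univ i)))
  choose c hc using hc
  letI algA₁ : Algebra A C₁ := ((algebraMap C C₁).comp (algebraMap A C)).toAlgebra
  haveI : IsScalarTower A C C₁ := IsScalarTower.of_algebraMap_eq fun x => rfl
  let τ₁A : C₁ →ₐ[A] H := τ₁.restrictScalars A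
  have haeval : ∀ q : MvPolynomial (Fin n) A, MvPolynomial.aeval h q = ψH (p q) := by
    intro q
    have h1 : (MvPolynomial.aeval h : MvPolynomial (Fin n) A →ₐ[A] H) = ψH.comp p := by
      apply MvPolynomial.algHom_ext
      intro i
      simp [h]
    rw [h1]; rfl
  have hτc : ∀ q : MvPolynomial (Fin n) A, τ₁ (MvPolynomial.aeval c q) = ψH (p q) := by
    intro q
    have h1 := AlgHom.congr_fun (MvPolynomial.comp_aeval (R := A) (f := c) τ₁A) q
    rw [AlgHom.comp_apply] at h1
    change τ₁A _ = _
    rw [h1, ← haeval]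
    congr 2
    funext i
    exact hc i
  have hker0 : ∀ q ∈ s, p q = 0 := by
    intro q hq
    have : q ∈ RingHom.ker p.toRingHom := by
      rw [← hs]; exact Ideal.subset_span hq
    exact this
  have hk : ∀ q : MvPolynomial (Fin n) A, ∃ k : C₁, q ∈ s →
      (k - 1 ∈ J.map (algebraMap C C₁) ∧ k * MvPolynomial.aeval c q = 0) := by
    intro q
    by_cases hq : q ∈ s
    · obtain ⟨k, hk1, hk2⟩ := EtNbhd.exists_mul_eq_zero hH hN₁ τ₁ (MvPolynomial.aeval c q)
        (by rw [hτc, hker0 q hq, map_zero])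
      exact ⟨k, fun _ => ⟨hk1, hk2⟩⟩
    · exact ⟨1, fun h => absurd h hq⟩
  choose k hk using hk
  let kk : C₁ := ∏ q ∈ s, k q
  have hkk : kk - 1 ∈ J.map (algebraMap C C₁) :=
    prod_sub_one_mem _ s k fun q hq => (hk q hq).1
  have hkk0 : ∀ q ∈ s, kk * MvPolynomial.aeval c q = 0 := by
    intro q hq
    have h1 : kk = (∏ q' ∈ s.erase q, k q') * k q := (Finset.prod_erase_mul s k hq).symm
    rw [h1, mul_assoc, (hk q hq).2, mul_zero]
  let C' := Localization.Away kk
  have hN' : EtNbhd.IsNbhd J C' := hN₁.away kk hkk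
  haveI : IsScalarTower A C C' := inferInstance
  haveI : IsScalarTower A C₁ C' := inferInstance
  let c' : Fin n → C' := fun i => algebraMap C₁ C' (c i)
  have hc'0 : ∀ q ∈ s, MvPolynomial.aeval c' q = 0 := by
    intro q hq
    have h1 := AlgHom.congr_fun
      (MvPolynomial.comp_aeval (R := A) (f := c) (IsScalarTower.toAlgHom A C₁ C')) q
    rw [AlgHom.comp_apply] at h1
    change MvPolynomial.aeval (fun i => (IsScalarTower.toAlgHom A C₁ C') (c i)) q = 0
    rw [← h1]
    change algebraMap C₁ C' _ = 0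
    have h2 := congrArg (algebraMap C₁ C') (hkk0 q hq)
    rw [map_mul, map_zero] at h2
    exact (IsLocalization.Away.algebraMap_isUnit (S := C') kk).mul_right_eq_zero.mp h2
  have hker : RingHom.ker p.toRingHom ≤
      RingHom.ker (MvPolynomial.aeval c' : MvPolynomial (Fin n) A →ₐ[A] C').toRingHom := by
    rw [← hs, Ideal.span_le]
    intro q hq
    exact hc'0 q hq
  let ψ : B →ₐ[A] C' := AlgHom.liftOfSurjective p hsurj (MvPolynomial.aeval c') hker
  let τ' : C' →ₐ[C] H := EtNbhd.toHens hH.1 hN'
  have hτ'₁ : (τ'.comp (IsScalarTower.toAlgHom C C₁ C')) = τ₁ :=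
    EtNbhd.algHom_unique hH.1 hN₁ _ _
  refine ⟨C', inferInstance, inferInstance, inferInstance, inferInstance, hN', τ', ψ, ?_⟩
  intro b
  obtain ⟨q, rfl⟩ := hsurj b
  have h1 : ψ (p q) = MvPolynomial.aeval c' q := AlgHom.liftOfSurjective_apply p hsurj _ hker q
  rw [h1, ← haeval]
  let τ'A : C' →ₐ[A] H := τ'.restrictScalars A
  have h2 := AlgHom.congr_fun (MvPolynomial.comp_aeval (R := A) (f := c') τ'A) q
  rw [AlgHom.comp_apply] at h2
  change τ'A _ = _
  rw [h2]
  congr 2
  funext i
  change τ' (algebraMap C₁ C' (c i)) = h i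
  rw [← hc i, ← hτ'₁]
  rfl

/-- **Approximation by étale neighbourhoods.**  `A` Noetherian, `B` a finitely presented
`A`-algebra, `C` an `A`-algebra which is a G-ring, `J` an ideal of `C`, and `φ₀ : B → Ĉ` an
`A`-algebra map to the `J`-adic completion.  Then there are an étale neighbourhood `C'` of
`(C, J)` and an `A`-algebra map `ψ : B → C'` congruent to `φ₀` modulo `J^(N+1)`. -/
theorem exists_etale_nbhd_approx (hPop : PopescuHyp.{u}) {A : Type u} [CommRing A]
    {B : Type u} [CommRing B] [Algebra A B] [Algebra.FinitePresentation A B]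
    {C : Type u} [CommRing C] [Algebra A C] (hC : CAlg.IsGRing C) (J : Ideal C)
    (φ₀ : B →ₐ[A] AdicCompletion J C) (N : ℕ) :
    ∃ (C' : Type u) (_ : CommRing C') (_ : Algebra C C') (_ : Algebra A C')
      (_ : IsScalarTower A C C') (_ : EtNbhd.IsNbhd J C') (ψ : B →ₐ[A] C'),
      ∀ (b : B) (c : C), AdicCompletion.evalₐ J (N + 1) (φ₀ b) = Ideal.Quotient.mk _ c →
        ψ b - algebraMap C C' c ∈ (J.map (algebraMap C C')) ^ (N + 1) := by
  obtain ⟨H, _, _, hH⟩ := Groth.Agent.S2051.result C J
  haveI : IsNoetherianRing C := hC.1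
  haveI : IsNoetherianRing H := HensNoeth.isNoetherianRing hH
  haveI hens : HenselianRing H (J.map (algebraMap C H)) := hH.1
  have hreg := isRegularHom_cpl_pairHens hC hH
  letI algAH : Algebra A H := ((algebraMap C H).comp (algebraMap A C)).toAlgebra
  haveI : IsScalarTower A C H := IsScalarTower.of_algebraMap_eq fun x => rfl
  let JH : Ideal H := J.map (algebraMap C H)
  haveI : IsScalarTower A H (AdicCompletion JH H) := IsScalarTower.of_algebraMap_eq fun x => rfl
  -- the comparison map as an `A`-algebra map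
  let κ : AdicCompletion J C →ₐ[A] AdicCompletion JH H :=
    { toRingHom := hensComplMap C J H
      commutes' := fun a => by
        change hensComplMap C J H (AdicCompletion.of J C (algebraMap A C a)) = _
        exact Groth.Agent.H20.complMap_of J JH (algebraMap C H) le_rfl _ }
  let f : H ⊗[A] B →ₐ[H] AdicCompletion JH H :=
    Algebra.TensorProduct.lift (Algebra.ofId H (AdicCompletion JH H)) (κ.comp φ₀)
      (fun _ _ => Commute.all _ _)
  obtain ⟨g, hg⟩ := exists_algHom_approx hPop H JH hreg (H ⊗[A] B) f N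
  let ψH : B →ₐ[A] H := (g.restrictScalars A).comp Algebra.TensorProduct.includeRight
  have hψH : ∀ b, AdicCompletion.evalₐ JH (N + 1) (hensComplMap C J H (φ₀ b)) =
      Ideal.Quotient.mk _ (ψH b) := by
    intro b
    have h1 := hg (1 ⊗ₜ b)
    have h2 : f (1 ⊗ₜ b) = hensComplMap C J H (φ₀ b) := by
      simp [f, κ]
    rw [h2] at h1
    exact h1
  obtain ⟨C', _, _, _, _, hN', τ, ψ, hψ⟩ := exists_nbhd_descent hH ψH
  refine ⟨C', inferInstance, inferInstance, inferInstance, inferInstance, hN', ψ, ?_⟩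
  intro b c hbc
  -- congruence in `H`
  have h3 : ψH b - algebraMap C H c ∈ JH ^ (N + 1) := by
    have h4 := hψH b
    change AdicCompletion.evalₐ JH (N + 1)
      (FSch.complMap J JH (algebraMap C H) le_rfl (φ₀ b)) = _ at h4
    rw [Groth.Agent.H20.evalₐ_complMap, hbc, Ideal.quotientMap_mk] at h4
    exact Ideal.Quotient.eq.mp h4.symm
  -- pass to `C'`
  letI algC'H : Algebra C' H := τ.toRingHom.toAlgebra
  haveI : IsScalarTower C C' H := IsScalarTower.of_algebraMap_eq fun x => (τ.commutes x).symm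
  have hH' := EtNbhd.isPairHenselization_nbhd hH hN'
  apply HensCompletion.mem_pow_of_algebraMap_mem hH' (N + 1)
  have h5 : algebraMap C' H (ψ b - algebraMap C C' c) = ψH b - algebraMap C H c := by
    change τ (ψ b - algebraMap C C' c) = _
    rw [map_sub, hψ, τ.commutes]
  rw [h5, Ideal.map_pow, Ideal.map_map, ← IsScalarTower.algebraMap_eq]
  exact h3

end Groth.Agent.H78.ArtinApx
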