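import Groth.Agent.H78.ArtinApx.IndEtCancel
import Groth.Agent.H3.HensNoeth
import Groth.Agent.H3.HensCompletion
import Groth.Agent.H3.HensUnion
import Groth.Agent.H26.AdicComplRegular
import Groth.Agent.H26.RegHomComp
import Groth.Agent.H20.ComplBij
import Groth.Agent.H72.ExcellentLoc

/-!
# The henselization of a pair `(C, J)` with `C` a G-ring has regular completion map

If `C` is a (Noetherian) G-ring, `J` an ideal of `C` and `H` a henselization of the pair `(C, J)`,
then `H → Ĥ` (the `JH`-adic completion) is a regular homomorphism.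
-/

set_option autoImplicit false
set_option linter.style.haveILetI false
universe u

open TensorProduct

namespace Groth.Agent.H78.ArtinApx

open Hens2 Groth.Agent.H3

section

variable {C : Type u} [CommRing C] {J : Ideal C} {H : Type u} [CommRing H] [Algebra C H]

/-- The comparison map of completions `Ĉ → Ĥ` for a henselization `H` of `(C, J)`. -/
noncomputable def hensComplMap (C : Type u) [CommRing C] (J : Ideal C) (H : Type u) [CommRing H]
    [Algebra C H] :
    AdicCompletion J C →+* AdicCompletion (J.map (algebraMap C H)) H :=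
  FSch.complMap J (J.map (algebraMap C H)) (algebraMap C H) le_rfl

theorem hensComplMap_bijective (hH : IsPairHenselization C J H) :
    Function.Bijective (hensComplMap C J H) := by
  refine Groth.Agent.H20.complMap_bijective J (J.map (algebraMap C H)) (algebraMap C H) le_rfl ?_
  intro n
  constructor
  · rw [injective_iff_map_eq_zero]
    intro x hx
    obtain ⟨a, rfl⟩ := Ideal.Quotient.mk_surjective x
    rw [Ideal.quotientMap_mk, Ideal.Quotient.eq_zero_iff_mem, ← Ideal.map_pow] at hx
    exact Ideal.Quotient.eq_zero_iff_mem.mpr (HensCompletion.mem_pow_of_algebraMap_mem hH n hx)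
  · intro y
    obtain ⟨b, rfl⟩ := Ideal.Quotient.mk_surjective y
    obtain ⟨a, ha⟩ := HensCompletion.exists_sub_mem_pow hH n b
    refine ⟨Ideal.Quotient.mk _ a, ?_⟩
    rw [Ideal.quotientMap_mk]
    refine (Ideal.Quotient.eq.mpr ?_).symm
    rw [← Ideal.map_pow]
    exact ha

theorem isRegularHom_cpl_pairHens (hC : CAlg.IsGRing C) (hH : IsPairHenselization C J H) :
    CAlg.IsRegularHom H (AdicCompletion (J.map (algebraMap C H)) H) := by
  haveI : IsNoetherianRing C := hC.1
  haveI : IsNoetherianRing H := HensNoeth.isNoetherianRing hH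
  haveI : IsNoetherianRing (AdicCompletion (J.map (algebraMap C H)) H) :=
    Groth.Agent.H20.isNoetherianRing_adicCompletion _
  haveI : IsNoetherianRing (AdicCompletion J C) :=
    Groth.Agent.H20.isNoetherianRing_adicCompletion _
  haveI : Module.Flat H (AdicCompletion (J.map (algebraMap C H)) H) :=
    AdicCompletion.flat_of_isNoetherian _
  haveI : IsScalarTower C H (AdicCompletion (J.map (algebraMap C H)) H) :=
    IsScalarTower.of_algebraMap_eq fun x => rfl
  have hreg1 : CAlg.IsRegularHom C (AdicCompletion J C) :=
    Groth.Agent.H26.AdicComplFibres.isRegularHom_adicCompletion hC J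
  letI alg : Algebra (AdicCompletion J C) (AdicCompletion (J.map (algebraMap C H)) H) :=
    (hensComplMap C J H).toAlgebra
  haveI : IsScalarTower C (AdicCompletion J C) (AdicCompletion (J.map (algebraMap C H)) H) := by
    refine IsScalarTower.of_algebraMap_eq fun x => ?_
    change _ = hensComplMap C J H (AdicCompletion.of J C x)
    exact (Groth.Agent.H20.complMap_of J (J.map (algebraMap C H)) (algebraMap C H) le_rfl x).symm
  have hreg2 : CAlg.IsRegularHom (AdicCompletion J C)
      (AdicCompletion (J.map (algebraMap C H)) H) :=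
    Groth.Agent.H72.ExcellentLoc.isRegularHom_of_bijective _ _ (hensComplMap_bijective hH)
  have hreg3 : CAlg.IsRegularHom C (AdicCompletion (J.map (algebraMap C H)) H) :=
    Groth.Agent.H26.RegHomComp.isRegularHom_comp C (AdicCompletion J C) _ hreg1 hreg2
      (fun p _ => Groth.Agent.H26.SkFlat.isNoetherianRing_fiber _ p)
  refine isRegularHom_of_inEtImage_cancel C H _ ?_ hreg3
  intro x
  obtain ⟨A', _, _, hEt, φ, hφ⟩ := HensUnion.isUnion_of_isPairHenselization hH x
  exact ⟨A', _, _, hEt, φ, hφ⟩

end

end Groth.Agent.H78.ArtinApx
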