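import Mathlib

/-!
# Morphisms `Spec R' ⟶ X` through an affine open: sections and stalks
-/

set_option autoImplicit false
set_option linter.style.haveILetI false
universe u

namespace Groth.Agent.H78.ArtinApx

open AlgebraicGeometry CategoryTheory IsLocalRing TopologicalSpace Opposite

section

variable {X : Scheme.{u}} {V : X.Opens} (hV : IsAffineOpen V) {R' : Type u} [CommRing R']
  (h : Γ(X, V) →+* R')

/-- the morphism `Spec R' ⟶ X` defined by a ring map out of the sections over an affine open -/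
noncomputable abbrev specTo : Spec (CommRingCat.of R') ⟶ X :=
  Spec.map (CommRingCat.ofHom h) ≫ hV.fromSpec

theorem specTo_preimage : (specTo hV h) ⁻¹ᵁ V = ⊤ := by
  rw [Scheme.Hom.comp_preimage, hV.fromSpec_preimage_self]
  rfl

theorem specTo_le : (⊤ : (Spec (CommRingCat.of R')).Opens) ≤ (specTo hV h) ⁻¹ᵁ V :=
  (specTo_preimage hV h).ge

theorem specTo_mem (u : Spec (CommRingCat.of R')) : specTo hV h u ∈ V :=
  specTo_le hV h (show u ∈ (⊤ : (Spec (CommRingCat.of R')).Opens) from trivial)

theorem specTo_appLE : (specTo hV h).appLE V ⊤ (specTo_le hV h) =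
    CommRingCat.ofHom h ≫ (Scheme.ΓSpecIso (CommRingCat.of R')).inv := by
  apply Spec.map_injective
  rw [← cancel_mono hV.fromSpec,
    IsAffineOpen.SpecMap_appLE_fromSpec (specTo hV h) hV
      (isAffineOpen_top (Spec (CommRingCat.of R'))) (specTo_le hV h),
    IsAffineOpen.fromSpec_top, Scheme.isoSpec_Spec_inv, Spec.map_comp, Category.assoc]

/-- the image of a point -/
theorem specTo_apply (u : Spec (CommRingCat.of R')) (x : X) (hxV : x ∈ V)
    (hu : (u : PrimeSpectrum R').asIdeal.comap h = (hV.primeIdealOf ⟨x, hxV⟩).asIdeal) :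
    specTo hV h u = x := by
  have h1 : (Spec.map (CommRingCat.ofHom h)) u = hV.primeIdealOf ⟨x, hxV⟩ := by
    apply PrimeSpectrum.ext
    exact hu
  change hV.fromSpec ((Spec.map (CommRingCat.ofHom h)) u) = x
  rw [h1]
  exact hV.fromSpec_primeIdealOf ⟨x, hxV⟩

/-- the stalk map on germs of sections over `V` -/
theorem specTo_stalkMap_germ (u : Spec (CommRingCat.of R')) (x : X)
    (hux : specTo hV h u = x) (hxV : x ∈ V) (c₀ : Γ(X, V)) :
    ((specTo hV h).stalkMap u).hom
        ((X.presheaf.stalkCongr (Inseparable.of_eq hux)).inv.hom (X.presheaf.germ V x hxV c₀)) =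
      (Spec (CommRingCat.of R')).presheaf.germ ⊤ u trivial
        ((Scheme.ΓSpecIso (CommRingCat.of R')).inv (h c₀)) := by
  subst hux
  have h1 : (X.presheaf.stalkCongr (Inseparable.of_eq (rfl : specTo hV h u = specTo hV h u))).inv.hom
      (X.presheaf.germ V (specTo hV h u) hxV c₀) = X.presheaf.germ V (specTo hV h u) hxV c₀ := by
    have := TopCat.Presheaf.germ_stalkSpecializes X.presheaf hxV
      (Inseparable.of_eq (rfl : specTo hV h u = specTo hV h u)).le
    exact ConcreteCategory.congr_hom this c₀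
  rw [h1, Scheme.Hom.germ_stalkMap_apply]
  have h2 : (specTo hV h).appLE V ⊤ (specTo_le hV h) c₀ =
      (Scheme.ΓSpecIso (CommRingCat.of R')).inv (h c₀) := by
    rw [specTo_appLE]; rfl
  rw [← h2, Scheme.Hom.appLE, CommRingCat.comp_apply]
  exact (TopCat.Presheaf.germ_res_apply (Spec (CommRingCat.of R')).presheaf
    (homOfLE (specTo_le hV h)) u trivial _).symm

end

section Stalk

variable {R' : Type u} [CommRing R']

/-- a germ of a global section of `Spec R'` at `u` is a unit iff the section is not in `u` -/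
theorem isUnit_germ_iff (u : Spec (CommRingCat.of R')) (r : R') :
    IsUnit ((Spec (CommRingCat.of R')).presheaf.germ ⊤ u trivial
      ((Scheme.ΓSpecIso (CommRingCat.of R')).inv r)) ↔ r ∉ (u : PrimeSpectrum R').asIdeal := by
  rw [← Scheme.mem_basicOpen_top, basicOpen_eq_of_affine]
  rfl

/-- ring maps out of `R'` inverting the complement of `u` extend to the stalk at `u` -/
theorem exists_stalk_lift (u : Spec (CommRingCat.of R')) {T : Type u} [CommRing T]
    (ψ : R' →+* T) (hψ : ∀ r, r ∉ (u : PrimeSpectrum R').asIdeal → IsUnit (ψ r)) :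
    ∃ ψl : (Spec (CommRingCat.of R')).presheaf.stalk u →+* T,
      ∀ r, ψl ((Spec (CommRingCat.of R')).presheaf.germ ⊤ u trivial
        ((Scheme.ΓSpecIso (CommRingCat.of R')).inv r)) = ψ r := by
  letI := (Spec (CommRingCat.of R')).presheaf.algebra_section_stalk
    (⟨u, trivial⟩ : (⊤ : (Spec (CommRingCat.of R')).Opens))
  haveI hloc := (isAffineOpen_top (Spec (CommRingCat.of R'))).isLocalization_stalk ⟨u, trivial⟩
  have halg : ∀ t : Γ(Spec (CommRingCat.of R'), ⊤),
      algebraMap Γ(Spec (CommRingCat.of R'), ⊤) ((Spec (CommRingCat.of R')).presheaf.stalk u) t =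
      (Spec (CommRingCat.of R')).presheaf.germ ⊤ u trivial t := fun t => rfl
  let ψ₀ : Γ(Spec (CommRingCat.of R'), ⊤) →+* T :=
    ψ.comp (Scheme.ΓSpecIso (CommRingCat.of R')).hom.hom
  have hunits : ∀ t : ((isAffineOpen_top (Spec (CommRingCat.of R'))).primeIdealOf
      ⟨u, trivial⟩).asIdeal.primeCompl, IsUnit (ψ₀ t) := by
    intro t
    have h1 : IsUnit (algebraMap Γ(Spec (CommRingCat.of R'), ⊤)
        ((Spec (CommRingCat.of R')).presheaf.stalk u) t) := IsLocalization.map_units _ t
    rw [halg] at h1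
    have h2 : (t : Γ(Spec (CommRingCat.of R'), ⊤)) = (Scheme.ΓSpecIso (CommRingCat.of R')).inv
        ((Scheme.ΓSpecIso (CommRingCat.of R')).hom (t : Γ(Spec (CommRingCat.of R'), ⊤))) := by simp
    rw [h2, isUnit_germ_iff] at h1
    exact hψ _ h1
  refine ⟨IsLocalization.lift (M := ((isAffineOpen_top (Spec (CommRingCat.of R'))).primeIdealOf
    ⟨u, trivial⟩).asIdeal.primeCompl) (g := ψ₀) hunits, fun r => ?_⟩
  rw [← halg, IsLocalization.lift_eq]
  change ψ ((Scheme.ΓSpecIso (CommRingCat.of R')).hom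
    ((Scheme.ΓSpecIso (CommRingCat.of R')).inv r)) = ψ r
  simp

end Stalk

end Groth.Agent.H78.ArtinApx
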