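import Groth.Agent.H78.ArtinApx.LocalApprox
import Groth.Agent.H78.ArtinApx.LocalCongr
import Groth.Agent.H78.ArtinApx.EssFTGRing
import Groth.Agent.H78.ArtinApx.SpecToAffine
import Groth.Agent.H14.HensProp.ElemNbhd2
import Groth.Agent.H20.EtaleLevels
import Groth.Agent.S0595

/-!
# Étale neighbourhoods approximating a map to a completed local ring (scheme form)
-/

set_option autoImplicit false
set_option linter.style.haveILetI false
universe u

namespace Groth.Agent.H78.ArtinApx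

open AlgebraicGeometry CategoryTheory IsLocalRing TopologicalSpace Opposite

theorem popescuHyp : PopescuHyp.{u} :=
  fun R _ _ Λ _ _ _ h B _ _ _ f => Groth.Agent.S0595.result R Λ h B f

/-- elements of `𝔪 L̂` are not units -/
theorem not_isUnit_of_mem_map_maximalIdeal {L : Type u} [CommRing L] [IsLocalRing L]
    {y : AdicCompletion (maximalIdeal L) L}
    (hy : y ∈ (maximalIdeal L).map (algebraMap L (AdicCompletion (maximalIdeal L) L))) :
    ¬ IsUnit y := by
  intro hu
  have hle : (maximalIdeal L).map (algebraMap L (AdicCompletion (maximalIdeal L) L)) ≤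
      RingHom.ker (AdicCompletion.evalₐ (maximalIdeal L) 1).toRingHom := by
    rw [Ideal.map_le_iff_le_comap]
    intro x hx
    rw [Ideal.mem_comap, RingHom.mem_ker]
    change AdicCompletion.evalₐ (maximalIdeal L) 1 (AdicCompletion.of _ _ x) = 0
    rw [AdicCompletion.evalₐ_of]
    exact Ideal.Quotient.eq_zero_iff_mem.mpr (by rwa [pow_one])
  have h0 : AdicCompletion.evalₐ (maximalIdeal L) 1 y = 0 := hle hy
  have h1 := hu.map (AdicCompletion.evalₐ (maximalIdeal L) 1)
  rw [h0] at h1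
  haveI : Nontrivial (L ⧸ maximalIdeal L ^ 1) := by
    rw [pow_one]
    exact Ideal.Quotient.nontrivial_iff.mpr (Ideal.IsPrime.ne_top inferInstance)
  exact not_isUnit_zero h1

/-- transport of the level conditions of a stalk map along `stalkCongr` -/
theorem stalkMap_congr_facts {U X : Scheme.{u}} (e : U ⟶ X) (u : U) (x : X) (heu : e u = x)
    (h1 : (maximalIdeal ↑(X.presheaf.stalk (e u))).map (e.stalkMap u).hom =
      maximalIdeal ↑(U.presheaf.stalk u))
    (h2 : ∀ n : ℕ, Function.Surjective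
      ((Ideal.Quotient.mk (maximalIdeal ↑(U.presheaf.stalk u) ^ n)).comp (e.stalkMap u).hom)) :
    (maximalIdeal ↑(X.presheaf.stalk x)).map
        ((e.stalkMap u).hom.comp (X.presheaf.stalkCongr (Inseparable.of_eq heu)).inv.hom) =
      maximalIdeal ↑(U.presheaf.stalk u) ∧
    ∀ (n : ℕ) (z : ↑(U.presheaf.stalk u)), ∃ c₀ : ↑(X.presheaf.stalk x),
      z - ((e.stalkMap u).hom.comp (X.presheaf.stalkCongr (Inseparable.of_eq heu)).inv.hom) c₀ ∈
        maximalIdeal ↑(U.presheaf.stalk u) ^ n := by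
  subst heu
  have hid : (X.presheaf.stalkCongr (Inseparable.of_eq (rfl : e u = e u))).inv.hom =
      RingHom.id _ := by
    ext c
    simp [TopCat.Presheaf.stalkCongr]
  rw [hid, RingHom.comp_id]
  refine ⟨h1, fun n z => ?_⟩
  obtain ⟨c₀, hc₀⟩ := h2 n (Ideal.Quotient.mk _ z)
  refine ⟨c₀, ?_⟩
  rw [RingHom.comp_apply] at hc₀
  exact Ideal.Quotient.eq.mp hc₀.symm

set_option maxHeartbeats 1600000 in
/-- **S7202.** -/
theorem exists_etale_nbhd_morphism_approx {X Y S : Scheme.{u}} [IsLocallyNoetherian S]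
    (p : X ⟶ S) (q : Y ⟶ S) [LocallyOfFiniteType p] [LocallyOfFiniteType q] (x : X) (y : Y)
    (hxy : p x = q y)
    (hG : CAlg.IsGRing ↑(S.presheaf.stalk (p x)))
    (φ : ↑(Y.presheaf.stalk y) →+* (AdicCompletion (IsLocalRing.maximalIdeal ↑(X.presheaf.stalk x)) ↑(X.presheaf.stalk x)))
    (hφ : φ.comp ((q.stalkMap y).hom.comp (S.presheaf.stalkCongr (Inseparable.of_eq hxy)).hom.hom) =
      (algebraMap ↑(X.presheaf.stalk x) (AdicCompletion (IsLocalRing.maximalIdeal ↑(X.presheaf.stalk x)) ↑(X.presheaf.stalk x))).comp (p.stalkMap x).hom)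
    (hloc : ∀ b ∈ IsLocalRing.maximalIdeal ↑(Y.presheaf.stalk y),
      φ b ∈ (IsLocalRing.maximalIdeal ↑(X.presheaf.stalk x)).map (algebraMap ↑(X.presheaf.stalk x) (AdicCompletion (IsLocalRing.maximalIdeal ↑(X.presheaf.stalk x)) ↑(X.presheaf.stalk x))))
    (N : ℕ) (hN : 1 ≤ N) :
    ∃ (U : Scheme.{u}) (e : U ⟶ X) (u : U) (heu : e u = x) (f : U ⟶ Y) (hfu : f u = y),
      Etale e ∧ Function.Bijective (e.residueFieldMap u) ∧ f ≫ q = e ≫ p ∧
      ∀ (b : ↑(Y.presheaf.stalk y)) (c : ↑(X.presheaf.stalk x)),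
        AdicCompletion.evalₐ (IsLocalRing.maximalIdeal ↑(X.presheaf.stalk x)) N (φ b) =
          Ideal.Quotient.mk (IsLocalRing.maximalIdeal ↑(X.presheaf.stalk x) ^ N) c →
        Ideal.Quotient.mk (IsLocalRing.maximalIdeal ↑(U.presheaf.stalk u) ^ N)
            ((f.stalkMap u).hom ((Y.presheaf.stalkCongr (Inseparable.of_eq hfu)).inv.hom b)) =
          Ideal.Quotient.mk (IsLocalRing.maximalIdeal ↑(U.presheaf.stalk u) ^ N)
            ((e.stalkMap u).hom ((X.presheaf.stalkCongr (Inseparable.of_eq heu)).inv.hom c)) := by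
  classical
  -- affine opens
  obtain ⟨_, ⟨V, hV, rfl⟩, hsV, -⟩ :=
    S.isBasis_affineOpens.exists_subset_of_mem_open (Set.mem_univ (p x)) isOpen_univ
  obtain ⟨_, ⟨WX, hWX, rfl⟩, hxW, hWXV⟩ :=
    X.isBasis_affineOpens.exists_subset_of_mem_open hsV (V.2.preimage p.continuous)
  have hyV : q y ∈ V := hxy ▸ hsV
  obtain ⟨_, ⟨WY, hWY, rfl⟩, hyW, hWYV⟩ :=
    Y.isBasis_affineOpens.exists_subset_of_mem_open hyV (V.2.preimage q.continuous)
  replace hV : IsAffineOpen V := hV
  replace hWX : IsAffineOpen WX := hWX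
  replace hWY : IsAffineOpen WY := hWY
  haveI hNA : IsNoetherianRing Γ(S, V) := IsLocallyNoetherian.component_noetherian ⟨V, hV⟩
  let α : Γ(S, V) →+* Γ(Y, WY) := (q.appLE V WY hWYV).hom
  let γ : Γ(S, V) →+* Γ(X, WX) := (p.appLE V WX hWXV).hom
  have hαft : α.FiniteType := q.finiteType_appLE hV hWY hWYV
  have hγft : γ.FiniteType := p.finiteType_appLE hV hWX hWXV
  have hα : α.FinitePresentation := RingHom.FinitePresentation.of_finiteType.mp hαft
  -- the local rings as localizations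
  letI algAC : Algebra Γ(S, V) Γ(X, WX) := γ.toAlgebra
  haveI hftAC : Algebra.FiniteType Γ(S, V) Γ(X, WX) := hγft
  haveI hNC : IsNoetherianRing Γ(X, WX) := Algebra.FiniteType.isNoetherianRing Γ(S, V) Γ(X, WX)
  letI algCL := X.presheaf.algebra_section_stalk (⟨x, hxW⟩ : WX)
  haveI hlocL := hWX.isLocalization_stalk ⟨x, hxW⟩
  letI algAOS := S.presheaf.algebra_section_stalk (⟨p x, hsV⟩ : V)
  haveI hlocOS := hV.isLocalization_stalk ⟨p x, hsV⟩
  letI algBOY := Y.presheaf.algebra_section_stalk (⟨y, hyW⟩ : WY)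
  haveI hlocOY := hWY.isLocalization_stalk ⟨y, hyW⟩
  set px : Ideal Γ(X, WX) := (hWX.primeIdealOf ⟨x, hxW⟩).asIdeal with hpx
  set ps : Ideal Γ(S, V) := (hV.primeIdealOf ⟨p x, hsV⟩).asIdeal with hps
  set py : Ideal Γ(Y, WY) := (hWY.primeIdealOf ⟨y, hyW⟩).asIdeal with hpy
  have hcomapX : px.comap γ = ps :=
    congrArg PrimeSpectrum.asIdeal (IsAffineOpen.comap_primeIdealOf_appLE V hV WX hWX hWXV hxW)
  have hGL : CAlg.IsGRing ↑(X.presheaf.stalk x) := by
    refine isGRing_of_isLocalization_finiteType (A₀ := Γ(S, V)) (C := Γ(X, WX)) ps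
      ↑(S.presheaf.stalk (p x)) hG px ?_ ↑(X.presheaf.stalk x)
    intro a ha hmem
    apply ha
    rw [← hcomapX]
    exact hmem
  -- the map `Γ(Y, WY) → L̂`
  let gY : Γ(Y, WY) →+* ↑(Y.presheaf.stalk y) := (Y.presheaf.germ WY y hyW).hom
  let gX : Γ(X, WX) →+* ↑(X.presheaf.stalk x) := (X.presheaf.germ WX x hxW).hom
  have hgX : ∀ c, algebraMap Γ(X, WX) ↑(X.presheaf.stalk x) c = gX c := fun c => rfl
  have hgY : ∀ b, algebraMap Γ(Y, WY) ↑(Y.presheaf.stalk y) b = gY b := fun b => rfl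
  let φ₀ : Γ(Y, WY) →+* AdicCompletion (maximalIdeal ↑(X.presheaf.stalk x)) ↑(X.presheaf.stalk x) :=
    φ.comp gY
  have hφ₀ : ∀ a, φ₀ (α a) = algebraMap ↑(X.presheaf.stalk x)
      (AdicCompletion (maximalIdeal ↑(X.presheaf.stalk x)) ↑(X.presheaf.stalk x))
      (algebraMap Γ(X, WX) ↑(X.presheaf.stalk x) (γ a)) := by
    intro a
    have h1 := RingHom.congr_fun hφ (S.presheaf.germ V (p x) hsV a)
    simp only [RingHom.coe_comp, Function.comp_apply] at h1
    have h2 : (S.presheaf.stalkCongr (Inseparable.of_eq hxy)).hom.hom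
        (S.presheaf.germ V (p x) hsV a) = S.presheaf.germ V (q y) hyV a := by
      have := TopCat.Presheaf.germ_stalkSpecializes S.presheaf hsV (Inseparable.of_eq hxy).ge
      exact ConcreteCategory.congr_hom this a
    have h3 : (q.stalkMap y).hom (S.presheaf.germ V (q y) hyV a) = gY (α a) := by
      rw [Scheme.Hom.germ_stalkMap_apply]
      change _ = (Y.presheaf.germ WY y hyW)
        ((q.app V ≫ Y.presheaf.map (homOfLE hWYV).op) a)
      rw [CommRingCat.comp_apply]
      exact (TopCat.Presheaf.germ_res_apply Y.presheaf (homOfLE hWYV) y hyW _).symm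
    have h4 : (p.stalkMap x).hom (S.presheaf.germ V (p x) hsV a) = gX (γ a) := by
      rw [Scheme.Hom.germ_stalkMap_apply]
      change _ = (X.presheaf.germ WX x hxW)
        ((p.app V ≫ X.presheaf.map (homOfLE hWXV).op) a)
      rw [CommRingCat.comp_apply]
      exact (TopCat.Presheaf.germ_res_apply X.presheaf (homOfLE hWXV) x hxW _).symm
    rw [h2, h3, h4] at h1
    exact h1
  obtain ⟨C', _, _, hEt, ψ, p', g, hp', hψC, hcomap, hres, hψp', hunit, hgα, happrox⟩ :=
    exists_etale_approx_ringHom popescuHyp α hα γ px ↑(X.presheaf.stalk x) hGL φ₀ hφ₀ N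
  haveI := hp'
  haveI : IsNoetherianRing ↑(X.presheaf.stalk x) := hGL.1
  set K : Ideal (AdicCompletion (maximalIdeal ↑(X.presheaf.stalk x)) ↑(X.presheaf.stalk x)) :=
    (maximalIdeal ↑(X.presheaf.stalk x) ^ N).map (algebraMap _ _) with hK
  set Mhat : Ideal (AdicCompletion (maximalIdeal ↑(X.presheaf.stalk x)) ↑(X.presheaf.stalk x)) :=
    (maximalIdeal ↑(X.presheaf.stalk x)).map (algebraMap _ _) with hMhat
  have hKM : K ≤ Mhat := Ideal.map_mono (Ideal.pow_le_self (by omega))
  -- the neighbourhood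
  let U : Scheme.{u} := Spec (CommRingCat.of C')
  let u : U := (⟨p', hp'⟩ : PrimeSpectrum C')
  let e : U ⟶ X := specTo hWX (algebraMap Γ(X, WX) C')
  let f : U ⟶ Y := specTo hWY g
  have heu : e u = x := specTo_apply hWX _ u x hxW hcomap
  -- units
  have hunit_iff : ∀ z : C', z ∈ p' ↔ ¬ IsUnit (ψ z) := by
    intro z
    constructor
    · intro hz
      exact not_isUnit_of_mem_map_maximalIdeal (hψp' z hz)
    · intro hz
      by_contra hzp
      exact hz (hunit z hzp)
  have hcomapY : p'.comap g = py := by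
    ext b₀
    rw [Ideal.mem_comap, hunit_iff]
    have h1 : IsUnit (ψ (g b₀)) ↔ IsUnit (φ₀ b₀) := by
      constructor
      · intro h
        have := isUnit_add_of_mem_map_maximalIdeal h (hKM (happrox b₀))
        rwa [add_sub_cancel] at this
      · intro h
        have h2 : ψ (g b₀) - φ₀ b₀ ∈ Mhat := by
          have := Mhat.neg_mem (hKM (happrox b₀))
          rwa [neg_sub] at this
        have := isUnit_add_of_mem_map_maximalIdeal h h2
        rwa [add_sub_cancel] at this
    have h3 : IsUnit (φ₀ b₀) ↔ IsUnit (gY b₀) := by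
      constructor
      · intro h
        by_contra hnu
        have h4 : gY b₀ ∈ maximalIdeal ↑(Y.presheaf.stalk y) := hnu
        exact not_isUnit_of_mem_map_maximalIdeal (hloc _ h4) h
      · intro h
        exact h.map φ
    rw [h1, h3, ← hgY, IsLocalization.AtPrime.isUnit_to_map_iff ↑(Y.presheaf.stalk y) py b₀]
    simp
  have hfu : f u = y := specTo_apply hWY g u y hyW hcomapY
  -- `e` is étale
  have hEt1 : Etale (Spec.map (CommRingCat.ofHom (algebraMap Γ(X, WX) C'))) := by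
    rw [HasRingHomProperty.Spec_iff (P := @Etale)]
    exact RingHom.etale_algebraMap.mpr hEt
  haveI := hEt1
  haveI hEte : Etale e :=
    show Etale (Spec.map (CommRingCat.ofHom (algebraMap Γ(X, WX) C')) ≫ hWX.fromSpec) from
      inferInstance
  -- trivial residue field extension
  have hfrac : ∀ b : C', ∃ s r : Γ(X, WX), algebraMap Γ(X, WX) C' s ∉ p' ∧
      algebraMap Γ(X, WX) C' s * b - algebraMap Γ(X, WX) C' r ∈ p' := by
    intro b
    obtain ⟨r, s, hs, hrs⟩ := hres b
    refine ⟨s, r, ?_, hrs⟩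
    intro h
    apply hs
    rw [← hcomap]
    exact h
  have hbij : Function.Bijective (e.residueFieldMap u) :=
    ⟨(e.residueFieldMap u).hom.injective,
      Groth.Agent.H14.HensProp.ElemNbhd.residueFieldMap_surjective hWX C' p' hfrac⟩
  -- compatibility with the base
  have hcomm : f ≫ q = e ≫ p := by
    have h1 : hWY.fromSpec ≫ q = Spec.map (q.appLE V WY hWYV) ≫ hV.fromSpec :=
      (IsAffineOpen.SpecMap_appLE_fromSpec q hV hWY hWYV).symm
    have h2 : hWX.fromSpec ≫ p = Spec.map (p.appLE V WX hWXV) ≫ hV.fromSpec :=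
      (IsAffineOpen.SpecMap_appLE_fromSpec p hV hWX hWXV).symm
    change (Spec.map (CommRingCat.ofHom g) ≫ hWY.fromSpec) ≫ q =
      (Spec.map (CommRingCat.ofHom (algebraMap Γ(X, WX) C')) ≫ hWX.fromSpec) ≫ p
    rw [Category.assoc, Category.assoc, h1, h2, ← Category.assoc, ← Category.assoc,
      ← Spec.map_comp, ← Spec.map_comp]
    congr 2
    ext a
    exact hgα a
  refine ⟨U, e, u, heu, f, hfu, hEte, hbij, hcomm, ?_⟩
  -- the level conditions for `e` at `u`
  haveI : IsLocallyNoetherian X := LocallyOfFiniteType.isLocallyNoetherian p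
  have hex : ∃ U' : U.Opens, u ∈ U' ∧ Etale (U'.ι ≫ e) := ⟨⊤, trivial, inferInstance⟩
  have hst := (Groth.Agent.H20.exists_etale_nhd_iff_stalkMap e u).mp hex
  have hlev := (Groth.Agent.H20.exists_etale_nhd_iff_levels e u (Or.inl hbij.2)).mp hex
  obtain ⟨hmax, hsurj⟩ := stalkMap_congr_facts e u x heu hst.2.1 (fun n => (hlev n).1)
  -- the retraction
  obtain ⟨ψl, hψl⟩ := exists_stalk_lift u ψ hunit
  set εX : ↑(X.presheaf.stalk x) →+* ↑(U.presheaf.stalk u) :=
    (e.stalkMap u).hom.comp (X.presheaf.stalkCongr (Inseparable.of_eq heu)).inv.hom with hεX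
  set εY : ↑(Y.presheaf.stalk y) →+* ↑(U.presheaf.stalk u) :=
    (f.stalkMap u).hom.comp (Y.presheaf.stalkCongr (Inseparable.of_eq hfu)).inv.hom with hεY
  have hεXg : ∀ c₀ : Γ(X, WX), εX (gX c₀) = U.presheaf.germ ⊤ u trivial
      ((Scheme.ΓSpecIso (CommRingCat.of C')).inv (algebraMap Γ(X, WX) C' c₀)) := fun c₀ =>
    specTo_stalkMap_germ hWX (algebraMap Γ(X, WX) C') u x heu hxW c₀
  have hεYg : ∀ b₀ : Γ(Y, WY), εY (gY b₀) = U.presheaf.germ ⊤ u trivial
      ((Scheme.ΓSpecIso (CommRingCat.of C')).inv (g b₀)) := fun b₀ =>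
    specTo_stalkMap_germ hWY g u y hfu hyW b₀
  have h1 : ψl.comp εX = algebraMap ↑(X.presheaf.stalk x)
      (AdicCompletion (maximalIdeal ↑(X.presheaf.stalk x)) ↑(X.presheaf.stalk x)) := by
    apply IsLocalization.ringHom_ext px.primeCompl
    refine RingHom.ext fun c₀ => ?_
    change ψl (εX (algebraMap Γ(X, WX) ↑(X.presheaf.stalk x) c₀)) =
      algebraMap ↑(X.presheaf.stalk x) _ (algebraMap Γ(X, WX) ↑(X.presheaf.stalk x) c₀)
    rw [hgX, hεXg, hψl, hψC, hgX]
  have h2 : (Ideal.Quotient.mk K).comp φ = (Ideal.Quotient.mk K).comp (ψl.comp εY) := by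
    apply IsLocalization.ringHom_ext py.primeCompl
    refine RingHom.ext fun b₀ => ?_
    change Ideal.Quotient.mk K (φ (algebraMap Γ(Y, WY) ↑(Y.presheaf.stalk y) b₀)) =
      Ideal.Quotient.mk K (ψl (εY (algebraMap Γ(Y, WY) ↑(Y.presheaf.stalk y) b₀)))
    rw [hgY, hεYg, hψl, Ideal.Quotient.eq]
    exact happrox b₀
  intro b c hbc
  exact congr_of_retraction εX εY N (hsurj N) hmax φ ψl (fun c => RingHom.congr_fun h1 c)
    (fun b => Ideal.Quotient.eq.mp (RingHom.congr_fun h2 b)) b c hbc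

end Groth.Agent.H78.ArtinApx
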